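import Groth.Agent.Lib.SchQuot.IsQuot
import Mathlib.Topology.Sheaves.SheafCondition.UniqueGluing

/-!
Being a quotient by a finite group is checked on a basis of opens of the target.
-/

universe u

open CategoryTheory AlgebraicGeometry TopologicalSpace Opposite

namespace Groth.Agent.Lib.SchQuot.Local

variable {X Y : Scheme.{u}} {G : Type u} [Group G] {ρ : G →* Aut X} {p : X ⟶ Y}

theorem res_app {U V : Y.Opens} (h : V ≤ U) (b : Γ(Y, U)) :
    p.app V (Y.presheaf.map (homOfLE h).op b) =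
      X.presheaf.map (homOfLE (show p ⁻¹ᵁ V ≤ p ⁻¹ᵁ U from fun _ hx => h hx)).op (p.app U b) := by
  rw [← CommRingCat.comp_apply, ← CommRingCat.comp_apply, Scheme.Hom.naturality]
  rfl

theorem res_pull (hinv : ∀ g : G, (ρ g).hom ≫ p = p) (g : G) {U V : Y.Opens} (h : V ≤ U)
    (s : Γ(X, p ⁻¹ᵁ U)) :
    IsQuot.pull hinv g V
        (X.presheaf.map (homOfLE (show p ⁻¹ᵁ V ≤ p ⁻¹ᵁ U from fun _ hx => h hx)).op s) =
      X.presheaf.map (homOfLE (show p ⁻¹ᵁ V ≤ p ⁻¹ᵁ U from fun _ hx => h hx)).op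
        (IsQuot.pull hinv g U s) := by
  rw [← CommRingCat.comp_apply, ← CommRingCat.comp_apply, IsQuot.pull, IsQuot.pull,
    Scheme.Hom.map_appLE, Scheme.Hom.appLE_map]

variable {B : Set Y.Opens}

theorem injective_of_basis (hB : Opens.IsBasis B)
    (hinj : ∀ U ∈ B, Function.Injective (p.app U).hom) (U : Y.Opens) :
    Function.Injective (p.app U).hom := by
  intro a b hab
  refine Y.sheaf.eq_of_locally_eq' (fun V : {V // V ∈ B ∧ V ≤ U} => V.1) U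
    (fun V => homOfLE V.2.2) ?_ a b fun V => hinj V.1 V.2.1 ?_
  · intro x hx
    obtain ⟨V, hV, hxV, hVU⟩ := Opens.isBasis_iff_nbhd.mp hB hx
    exact Opens.mem_iSup.mpr ⟨⟨V, hV, hVU⟩, hxV⟩
  · exact (res_app V.2.2 a).trans ((congrArg _ hab).trans (res_app V.2.2 b).symm)

theorem exists_of_basis (hB : Opens.IsBasis B) (hinv : ∀ g : G, (ρ g).hom ≫ p = p)
    (hinj : ∀ U ∈ B, Function.Injective (p.app U).hom)
    (hrange : ∀ U ∈ B, ∀ s : Γ(X, p ⁻¹ᵁ U), (∀ g : G, IsQuot.pull hinv g U s = s) →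
      s ∈ Set.range (p.app U).hom)
    (U : Y.Opens) (s : Γ(X, p ⁻¹ᵁ U)) (hs : ∀ g : G, IsQuot.pull hinv g U s = s) :
    s ∈ Set.range (p.app U).hom := by
  have hloc : ∀ V : {V // V ∈ B ∧ V ≤ U}, ∃ t : Γ(Y, V.1), p.app V.1 t =
      X.presheaf.map (homOfLE (show p ⁻¹ᵁ V.1 ≤ p ⁻¹ᵁ U from fun _ hx => V.2.2 hx)).op s :=
    fun V => hrange V.1 V.2.1 _ fun g => by rw [res_pull hinv g V.2.2 s, hs]
  choose t ht using hloc
  have hcov : U ≤ iSup fun V : {V // V ∈ B ∧ V ≤ U} => V.1 := by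
    intro x hx
    obtain ⟨V, hV, hxV, hVU⟩ := Opens.isBasis_iff_nbhd.mp hB hx
    exact Opens.mem_iSup.mpr ⟨⟨V, hV, hVU⟩, hxV⟩
  obtain ⟨b, hb, -⟩ := Y.sheaf.existsUnique_gluing' (fun V : {V // V ∈ B ∧ V ≤ U} => V.1) U
    (fun V => homOfLE V.2.2) hcov t fun V W => by
      refine injective_of_basis hB hinj _ ?_
      show p.app (V.1 ⊓ W.1) (Y.presheaf.map (homOfLE inf_le_left).op (t V)) =
        p.app (V.1 ⊓ W.1) (Y.presheaf.map (homOfLE inf_le_right).op (t W))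
      rw [res_app, res_app, ht, ht, ← CommRingCat.comp_apply, ← CommRingCat.comp_apply,
        ← Functor.map_comp, ← Functor.map_comp]
      rfl
  refine ⟨b, X.sheaf.eq_of_locally_eq' (fun V : {V // V ∈ B ∧ V ≤ U} => p ⁻¹ᵁ V.1) (p ⁻¹ᵁ U)
    (fun V => homOfLE (show p ⁻¹ᵁ V.1 ≤ p ⁻¹ᵁ U from fun _ hx => V.2.2 hx)) ?_ _ _ fun V => ?_⟩
  · intro x hx
    obtain ⟨V, hV⟩ := Opens.mem_iSup.mp (hcov (show p x ∈ U from hx))
    exact Opens.mem_iSup.mpr ⟨V, hV⟩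
  · exact (res_app V.2.2 b).symm.trans ((congrArg (p.app V.1) (hb V)).trans (ht V))

theorem isQuot_of_basis [IsAffineHom p] (hB : Opens.IsBasis B)
    (hinv : ∀ g : G, (ρ g).hom ≫ p = p)
    (hinj : ∀ U ∈ B, Function.Injective (p.app U).hom)
    (hrange : ∀ U ∈ B, ∀ s : Γ(X, p ⁻¹ᵁ U), (∀ g : G, IsQuot.pull hinv g U s = s) →
      s ∈ Set.range (p.app U).hom) :
    SGA1.IsQuot ρ p := by
  refine ⟨inferInstance, hinv, injective_of_basis hB hinj, fun U s => ⟨?_, fun hs =>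
    exists_of_basis hB hinv hinj hrange U s hs⟩⟩
  rintro ⟨b, rfl⟩ g
  rw [← CommRingCat.comp_apply, Scheme.Hom.app_eq_appLE, Scheme.Hom.appLE_comp_appLE]
  simp only [hinv g]

end Groth.Agent.Lib.SchQuot.Local
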