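import Mathlib.AlgebraicGeometry.Scheme
import Mathlib.Topology.Maps.Basic

/-!
Descending morphisms of schemes along topological quotient maps that are injective on sections.
-/

universe u

open CategoryTheory AlgebraicGeometry TopologicalSpace Opposite

namespace Groth.Agent.Lib.SchQuot.Desc

variable {X Y Z : Scheme.{u}}

/-- A morphism which is surjective on points and injective on sections is right cancellable. -/
theorem hom_ext_of_surjective (p : X ⟶ Y) (hs : Function.Surjective p)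
    (hinj : ∀ U : Y.Opens, Function.Injective (p.app U).hom) {a b : Y ⟶ Z}
    (h : p ≫ a = p ≫ b) : a = b := by
  have hb : a.base = b.base := by
    refine TopCat.ext fun y => ?_
    obtain ⟨x, rfl⟩ := hs y
    rw [← Scheme.Hom.comp_apply, ← Scheme.Hom.comp_apply, h]
  refine Scheme.Hom.ext hb fun U => ?_
  have : Mono (p.app (b ⁻¹ᵁ U)) := ConcreteCategory.mono_of_injective _ (hinj _)
  rw [← cancel_mono (p.app (b ⁻¹ᵁ U)), Category.assoc, Scheme.Hom.naturality]
  show a.app U ≫ p.app (a ⁻¹ᵁ U) ≫ X.presheaf.map _ = b.app U ≫ p.app (b ⁻¹ᵁ U)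
  rw [← Scheme.Hom.comp_app, ← Category.assoc, ← Scheme.Hom.comp_app, Scheme.Hom.congr_app h U]
  refine (Category.assoc _ _ _).trans ?_
  exact (congrArg (_ ≫ ·) ((X.presheaf.map_comp _ _).symm.trans (X.presheaf.map_id _))).trans
    (Category.comp_id _)

theorem exists_desc (p : X ⟶ Y) (hq : Topology.IsQuotientMap p)
    (hinj : ∀ U : Y.Opens, Function.Injective (p.app U).hom) (h : X ⟶ Z)
    (hconst : ∀ x x', p x = p x' → h x = h x')
    (hsec : ∀ (W : Z.Opens) (U : Y.Opens) (e : p ⁻¹ᵁ U ≤ h ⁻¹ᵁ W) (s : Γ(Z, W)),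
      (h.appLE W (p ⁻¹ᵁ U) e).hom s ∈ Set.range (p.app U).hom) :
    ∃ h' : Y ⟶ Z, p ≫ h' = h := by
  choose sec hsec' using hq.surjective
  let φ : Y → Z := fun y => h (sec y)
  have hφ : ∀ x, φ (p x) = h x := fun x => hconst _ _ (hsec' (p x))
  have hcont : Continuous φ := by
    rw [hq.continuous_iff]
    exact h.continuous.congr fun x => (hφ x).symm
  let base : TopCat.of Y ⟶ TopCat.of Z := TopCat.ofHom ⟨φ, hcont⟩
  let pre : Z.Opens → Y.Opens := fun W => (Opens.map base).obj W
  have hpre : ∀ W, p ⁻¹ᵁ pre W ≤ h ⁻¹ᵁ W := fun W x hx => by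
    show h x ∈ W
    rw [← hφ x]
    exact hx
  choose lift hlift using fun W : Z.Opens => hsec W (pre W) (hpre W)
  let c : ∀ W : Z.Opens, Γ(Z, W) ⟶ Γ(Y, pre W) := fun W => CommRingCat.ofHom
    { toFun := lift W
      map_one' := hinj _ (by rw [hlift, map_one, map_one])
      map_mul' := fun a b => hinj _ (by rw [hlift, map_mul, map_mul, hlift, hlift])
      map_zero' := hinj _ (by rw [hlift, map_zero, map_zero])
      map_add' := fun a b => hinj _ (by rw [hlift, map_add, map_add, hlift, hlift]) }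
  have hc : ∀ W, c W ≫ p.app (pre W) = h.appLE W (p ⁻¹ᵁ pre W) (hpre W) := fun W =>
    CommRingCat.hom_ext (RingHom.ext fun s => hlift W s)
  have hnat : ∀ {W W' : Z.Opens} (i : W' ⟶ W),
      Z.presheaf.map i.op ≫ c W' = c W ≫ Y.presheaf.map ((Opens.map base).map i).op := by
    intro W W' i
    refine CommRingCat.hom_ext (RingHom.ext fun s => hinj _ ?_)
    show (p.app (pre W')).hom ((Z.presheaf.map i.op ≫ c W').hom s) =
      (p.app (pre W')).hom ((c W ≫ Y.presheaf.map ((Opens.map base).map i).op).hom s)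
    rw [← CommRingCat.comp_apply, ← CommRingCat.comp_apply]
    congr 2
    rw [Category.assoc, Category.assoc, hc, Scheme.Hom.naturality, reassoc_of% hc,
      Scheme.Hom.map_appLE, Scheme.Hom.appLE_map]
  let hom : Y.toPresheafedSpace ⟶ Z.toPresheafedSpace :=
    { base := base
      c := { app := fun W => c W.unop, naturality := fun W W' i => hnat i.unop } }
  have hcomp : p.toLRSHom.toHom ≫ hom = h.toLRSHom.toHom := by
    refine PresheafedSpace.ext _ _ (TopCat.ext hφ) ?_
    refine NatTrans.ext (funext fun W => ?_)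
    obtain ⟨W⟩ := W
    show (c W ≫ p.app (pre W)) ≫ _ = _
    rw [hc, Scheme.Hom.appLE]
    refine (Category.assoc _ _ _).trans ?_
    show h.app W ≫ (X.presheaf.map _ ≫ X.presheaf.map _) = h.app W
    exact (congrArg (_ ≫ ·) ((X.presheaf.map_comp _ _).symm.trans (X.presheaf.map_id _))).trans
      (Category.comp_id _)
  refine ⟨⟨⟨hom, fun y => ?_⟩⟩, Scheme.Hom.ext' (LocallyRingedSpace.Hom.ext' hcomp)⟩
  obtain ⟨x, rfl⟩ := hq.surjective y
  have hl : IsLocalHom ((p.toLRSHom.toHom ≫ hom).stalkMap x).hom := by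
    rw [hcomp]
    exact h.toLRSHom.prop x
  rw [PresheafedSpace.stalkMap.comp] at hl
  have : IsLocalHom ((p.toLRSHom.toHom.stalkMap x).hom.comp (hom.stalkMap (p x)).hom) := hl
  exact isLocalHom_of_comp (hom.stalkMap (p x)).hom (p.toLRSHom.toHom.stalkMap x).hom

theorem existsUnique_desc (p : X ⟶ Y) (hq : Topology.IsQuotientMap p)
    (hinj : ∀ U : Y.Opens, Function.Injective (p.app U).hom) (h : X ⟶ Z)
    (hconst : ∀ x x', p x = p x' → h x = h x')
    (hsec : ∀ (W : Z.Opens) (U : Y.Opens) (e : p ⁻¹ᵁ U ≤ h ⁻¹ᵁ W) (s : Γ(Z, W)),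
      (h.appLE W (p ⁻¹ᵁ U) e).hom s ∈ Set.range (p.app U).hom) :
    ∃! h' : Y ⟶ Z, p ≫ h' = h := by
  obtain ⟨h', hh'⟩ := exists_desc p hq hinj h hconst hsec
  exact ⟨h', hh', fun g hg => hom_ext_of_surjective p hq.surjective hinj (hg.trans hh'.symm)⟩

end Groth.Agent.Lib.SchQuot.Desc
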