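import Mathlib.AlgebraicGeometry.Morphisms.Integral
import Mathlib.RingTheory.Invariant.Basic
import Groth.Prelude.Def_SGA1
import Groth.Agent.Lib.SchQuot.Desc

/-!
Basic properties of quotients of schemes by finite groups in the sense of `SGA1.IsQuot`.
-/

universe u

open CategoryTheory AlgebraicGeometry TopologicalSpace Opposite

namespace Groth.Agent.Lib.SchQuot.IsQuot

variable {X Y : Scheme.{u}} {G : Type u} [Group G] {ρ : G →* Aut X} {p : X ⟶ Y}

theorem hom_mul_hom (ρ : G →* Aut X) (g h : G) :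
    (ρ (g * h)).hom = (ρ h).hom ≫ (ρ g).hom := by
  rw [map_mul]; rfl

theorem hom_one (ρ : G →* Aut X) : (ρ 1).hom = 𝟙 X := by
  rw [map_one]; rfl

/-- The pullback of sections over `p⁻¹U` along `ρ g`. -/
noncomputable def pull (hinv : ∀ g : G, (ρ g).hom ≫ p = p) (g : G) (U : Y.Opens) :
    Γ(X, p ⁻¹ᵁ U) ⟶ Γ(X, p ⁻¹ᵁ U) :=
  (ρ g).hom.appLE (p ⁻¹ᵁ U) (p ⁻¹ᵁ U) (SGA1.preimage_le_of_inv ρ p hinv g U)

variable (hp : SGA1.IsQuot ρ p) (U : Y.Opens)
include hp

theorem pull_mul (g h : G) : pull hp.inv (g * h) U = pull hp.inv g U ≫ pull hp.inv h U := by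
  rw [pull, pull, pull, Scheme.Hom.appLE_comp_appLE]
  simp only [hom_mul_hom]

theorem pull_one : pull hp.inv 1 U = 𝟙 _ := by
  rw [pull]
  simp only [hom_one]
  exact (Category.id_comp _).trans (X.presheaf.map_id _)

theorem app_pull (g : G) : p.app U ≫ pull hp.inv g U = p.app U := by
  rw [pull, Scheme.Hom.app_eq_appLE, Scheme.Hom.appLE_comp_appLE]
  simp only [hp.inv g]

/-- The action of `G` on the sections over `p⁻¹U`. -/
@[instance_reducible]
noncomputable def action : MulSemiringAction G Γ(X, p ⁻¹ᵁ U) where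
  smul g s := pull hp.inv g⁻¹ U s
  one_smul s := by
    show pull hp.inv (1 : G)⁻¹ U s = s
    rw [inv_one, pull_one hp]; rfl
  mul_smul g h s := by
    show pull hp.inv (g * h)⁻¹ U s = pull hp.inv g⁻¹ U (pull hp.inv h⁻¹ U s)
    rw [mul_inv_rev, pull_mul hp]; rfl
  smul_zero g := map_zero _
  smul_add g := map_add _
  smul_one g := map_one _
  smul_mul g := map_mul _

theorem smulCommClass :
    letI := action hp U
    letI := (p.app U).hom.toAlgebra
    SMulCommClass G Γ(Y, U) Γ(X, p ⁻¹ᵁ U) := by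
  let := action hp U
  let := (p.app U).hom.toAlgebra
  refine ⟨fun g b s => ?_⟩
  show pull hp.inv g⁻¹ U (p.app U b * s) = p.app U b * pull hp.inv g⁻¹ U s
  rw [map_mul, ← CommRingCat.comp_apply, app_pull hp]

theorem isInvariant :
    letI := action hp U
    letI := (p.app U).hom.toAlgebra
    Algebra.IsInvariant Γ(Y, U) Γ(X, p ⁻¹ᵁ U) G := by
  let := action hp U
  let := (p.app U).hom.toAlgebra
  refine ⟨fun s hs => (hp.range_iff U s).mpr fun g => ?_⟩
  have := hs g⁻¹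
  change pull hp.inv g⁻¹⁻¹ U s = s at this
  rwa [inv_inv] at this

theorem isIntegralHom [Finite G] : IsIntegralHom p := by
  have := hp.affine
  refine { isIntegral_app := fun U hU => ?_ }
  let := action hp U
  let := (p.app U).hom.toAlgebra
  have := smulCommClass hp U
  have := isInvariant hp U
  exact (Algebra.IsInvariant.isIntegral Γ(Y, U) Γ(X, p ⁻¹ᵁ U) G).isIntegral

theorem isClosedMap [Finite G] : IsClosedMap p := by
  have := isIntegralHom hp
  exact p.isClosedMap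

theorem surjective [Finite G] : Function.Surjective p := by
  intro y
  obtain ⟨_, ⟨U, hU, rfl⟩, hy, -⟩ :=
    Y.isBasis_affineOpens.exists_subset_of_mem_open (Set.mem_univ y) isOpen_univ
  have := hp.affine
  have hV : IsAffineOpen (p ⁻¹ᵁ U) := hU.preimage p
  have := isIntegralHom hp
  let := (p.app U).hom.toAlgebra
  have : Algebra.IsIntegral Γ(Y, U) Γ(X, p ⁻¹ᵁ U) := ⟨p.isIntegral_app U hU⟩
  obtain ⟨q, -, hq, hqc⟩ := Ideal.exists_ideal_over_prime_of_isIntegral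
    (IsAffineOpen.primeIdealOf hU ⟨y, hy⟩).asIdeal (⊥ : Ideal Γ(X, p ⁻¹ᵁ U))
    (fun b hb => by
      have : b = 0 := hp.injective U (((Ideal.mem_bot).mp hb).trans (map_zero _).symm)
      rw [this]; exact zero_mem _)
  refine ⟨hV.fromSpec ⟨q, hq⟩, ?_⟩
  have key := congrArg (fun f => f ⟨q, hq⟩)
    (congrArg (fun f => (f : _ ⟶ Y).base)
      (IsAffineOpen.SpecMap_appLE_fromSpec p hU hV le_rfl)).symm
  refine key.trans ?_
  have he : Spec.map (p.appLE U (p ⁻¹ᵁ U) le_rfl) ⟨q, hq⟩ = IsAffineOpen.primeIdealOf hU ⟨y, hy⟩ := by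
    refine PrimeSpectrum.ext ?_
    rw [← Scheme.Hom.app_eq_appLE]
    exact hqc
  exact (congrArg _ he).trans (IsAffineOpen.fromSpec_primeIdealOf hU ⟨y, hy⟩)

theorem isQuotientMap [Finite G] : Topology.IsQuotientMap p :=
  (isClosedMap hp).isQuotientMap p.continuous (surjective hp)

theorem apply_hom (g : G) (x : X) : p ((ρ g).hom x) = p x := by
  rw [← Scheme.Hom.comp_apply, hp.inv]

/-- The fibres of `p` are the orbits of `G`. -/
theorem apply_eq_iff [Finite G] (x x' : X) : p x = p x' ↔ ∃ g : G, (ρ g).hom x = x' := by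
  refine ⟨fun h => ?_, fun ⟨g, hg⟩ => hg ▸ (apply_hom hp g x).symm⟩
  obtain ⟨_, ⟨U, hU, rfl⟩, hy, -⟩ :=
    Y.isBasis_affineOpens.exists_subset_of_mem_open (Set.mem_univ (p x)) isOpen_univ
  have := hp.affine
  have hV : IsAffineOpen (p ⁻¹ᵁ U) := hU.preimage p
  have hx : x ∈ p ⁻¹ᵁ U := hy
  have hx' : x' ∈ p ⁻¹ᵁ U := show p x' ∈ U from h ▸ hy
  let := action hp U
  let := (p.app U).hom.toAlgebra
  have := smulCommClass hp U
  have := isInvariant hp U
  have hu : (hV.primeIdealOf ⟨x, hx⟩).asIdeal.under Γ(Y, U) =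
      (hV.primeIdealOf ⟨x', hx'⟩).asIdeal.under Γ(Y, U) := by
    have h1 := hU.comap_primeIdealOf_appLE (f := p) U (p ⁻¹ᵁ U) hV le_rfl hx
    have h2 := hU.comap_primeIdealOf_appLE (f := p) U (p ⁻¹ᵁ U) hV le_rfl hx'
    rw [← Scheme.Hom.app_eq_appLE] at h1 h2
    have h3 : hU.primeIdealOf ⟨p x, hy⟩ = hU.primeIdealOf ⟨p x', hx'⟩ :=
      congrArg _ (Subtype.ext h)
    exact congrArg PrimeSpectrum.asIdeal ((h1.trans h3).trans h2.symm)
  obtain ⟨g, hg⟩ := Algebra.IsInvariant.exists_smul_of_under_eq Γ(Y, U) Γ(X, p ⁻¹ᵁ U) G _ _ hu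
  refine ⟨g, ?_⟩
  have hxg : (ρ g).hom x ∈ p ⁻¹ᵁ U := show p _ ∈ U by rwa [apply_hom hp g x]
  have e : hV.primeIdealOf ⟨(ρ g).hom x, hxg⟩ = hV.primeIdealOf ⟨x', hx'⟩ := by
    refine Eq.trans (hV.comap_primeIdealOf_appLE (f := (ρ g).hom) _ _ hV
      (SGA1.preimage_le_of_inv ρ p hp.inv g U) hx).symm ?_
    refine PrimeSpectrum.ext ?_
    rw [hg]
    ext s
    rw [Ideal.mem_pointwise_smul_iff_inv_smul_mem]
    show pull hp.inv g U s ∈ (hV.primeIdealOf ⟨x, hx⟩).asIdeal ↔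
      pull hp.inv g⁻¹⁻¹ U s ∈ (hV.primeIdealOf ⟨x, hx⟩).asIdeal
    rw [inv_inv]
  have := congrArg hV.fromSpec e
  rwa [IsAffineOpen.fromSpec_primeIdealOf, IsAffineOpen.fromSpec_primeIdealOf] at this

theorem existsUnique_desc [Finite G] {Z : Scheme.{u}} (h : X ⟶ Z)
    (hh : ∀ g : G, (ρ g).hom ≫ h = h) : ∃! h' : Y ⟶ Z, p ≫ h' = h := by
  refine Desc.existsUnique_desc p (isQuotientMap hp) hp.injective h (fun x x' hxx => ?_)
    (fun W U e s => (hp.range_iff U _).mpr fun g => ?_)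
  · obtain ⟨g, rfl⟩ := (apply_eq_iff hp x x').mp hxx
    rw [← Scheme.Hom.comp_apply, hh]
  · rw [← CommRingCat.comp_apply, Scheme.Hom.appLE_comp_appLE]
    simp only [hh g]

end Groth.Agent.Lib.SchQuot.IsQuot
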