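import Groth.Agent.Lib.SchQuot.Local
import Mathlib.AlgebraicGeometry.Morphisms.Flat
import Mathlib.LinearAlgebra.TensorProduct.Pi

/-!
Quotients by finite groups commute with flat base change.
-/

universe u

open CategoryTheory CategoryTheory.Limits AlgebraicGeometry TopologicalSpace Opposite
open scoped TensorProduct

namespace Groth.Agent.Lib.SchQuot.FlatBaseChange

/-- The fixed points commute with flat base change. -/
theorem range_of_fixed {ι B A B' A' : Type u} [Finite ι] [CommRing B] [CommRing A] [CommRing B']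
    [CommRing A'] [Algebra B A] [Algebra B B'] [Algebra B' A'] [Algebra A A'] [Algebra B A']
    [IsScalarTower B B' A'] [IsScalarTower B A A'] [Algebra.IsPushout B B' A A']
    [Module.Flat B B'] (hinj : Function.Injective (algebraMap B A)) (σ : ι → (A →ₐ[B] A))
    (σ' : ι → (A' →ₐ[B'] A')) (hσ : ∀ i a, σ' i (algebraMap A A' a) = algebraMap A A' (σ i a))
    (hfix : ∀ a, (∀ i, σ i a = a) → a ∈ Set.range (algebraMap B A)) :
    Function.Injective (algebraMap B' A') ∧
      ∀ s : A', (∀ i, σ' i s = s) → s ∈ Set.range (algebraMap B' A') := by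
  let e := Algebra.IsPushout.equiv B B' A A'
  cases nonempty_fintype ι
  classical
  have hone : ∀ b' : B', algebraMap B' A' b' = e (b' ⊗ₜ[B] algebraMap B A 1) := fun b' => by
    rw [Algebra.IsPushout.equiv_tmul, map_one, map_one, mul_one]
  have hl := Module.Flat.lTensor_preserves_injective_linearMap (M := B') (Algebra.linearMap B A) hinj
  refine ⟨fun a b hab => ?_, fun s hs => ?_⟩
  · rw [hone, hone] at hab
    have := hl (a₁ := a ⊗ₜ[B] (1 : B)) (a₂ := b ⊗ₜ[B] (1 : B))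
      (by simpa only [LinearMap.lTensor_tmul, Algebra.linearMap_apply] using e.injective hab)
    have := congrArg (TensorProduct.rid B B') this
    simpa using this
  · obtain ⟨z, rfl⟩ := e.surjective s
    have hcomm : ∀ i z, σ' i (e z) = e ((σ i).toLinearMap.lTensor B' z) := by
      intro i z
      induction z using TensorProduct.induction_on with
      | zero => simp
      | add x y hx hy => rw [map_add, map_add, hx, hy, map_add, map_add]
      | tmul b' a =>
        rw [LinearMap.lTensor_tmul, Algebra.IsPushout.equiv_tmul, Algebra.IsPushout.equiv_tmul,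
          map_mul, AlgHom.commutes, hσ]
        rfl
    let Φ : A →ₗ[B] (ι → A) := LinearMap.pi fun i => (σ i).toLinearMap - LinearMap.id
    have hex : Function.Exact (Algebra.linearMap B A) Φ := by
      intro a
      refine ⟨fun h => hfix a fun i => sub_eq_zero.mp (congrFun h i), ?_⟩
      rintro ⟨b, rfl⟩
      funext i
      simp [Φ]
    have hz : Φ.lTensor B' z = 0 := by
      refine (TensorProduct.piRight B B B' fun _ : ι => A).injective ?_
      funext i
      have : (TensorProduct.piRight B B B' fun _ : ι => A) (Φ.lTensor B' z) i =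
          (σ i).toLinearMap.lTensor B' z - z := by
        clear hs
        induction z using TensorProduct.induction_on with
        | zero => simp
        | add x y hx hy => simp only [map_add, Pi.add_apply, hx, hy]; abel
        | tmul b' a => simp [Φ, TensorProduct.tmul_sub]
      rw [this, map_zero, Pi.zero_apply, sub_eq_zero]
      exact e.injective ((hcomm i z).symm.trans (hs i))
    obtain ⟨w, hw⟩ := (Module.Flat.lTensor_exact B' hex z).mp hz
    refine ⟨TensorProduct.rid B B' w, ?_⟩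
    rw [← hw]
    clear hw hz hs
    induction w using TensorProduct.induction_on with
    | zero => simp
    | add x y hx hy => simp only [map_add, hx, hy]
    | tmul b' b =>
      rw [LinearMap.lTensor_tmul, TensorProduct.rid_tmul, Algebra.IsPushout.equiv_tmul,
        Algebra.smul_def, map_mul, mul_comm, ← IsScalarTower.algebraMap_apply B B' A',
        Algebra.linearMap_apply, ← IsScalarTower.algebraMap_apply B A A']

theorem isQuot_baseChange {X Y X' Y' : Scheme.{u}} {G : Type u} [Group G] [Finite G]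
    {ρ : G →* Aut X} {p : X ⟶ Y} (hp : SGA1.IsQuot ρ p) {qY : Y' ⟶ Y} [Flat qY] {pX : X' ⟶ X}
    {p' : X' ⟶ Y'} (hX : IsPullback pX p' p qY) (ρ' : G →* Aut X')
    (hρ₁ : ∀ g : G, (ρ' g).hom ≫ pX = pX ≫ (ρ g).hom) (hρ₂ : ∀ g : G, (ρ' g).hom ≫ p' = p') :
    SGA1.IsQuot ρ' p' := by
  have := hp.affine
  have : IsAffineHom p' := MorphismProperty.of_isPullback hX hp.affine
  have key : ∀ V : Y'.Opens, IsAffineOpen V →
      (∃ U : Y.Opens, IsAffineOpen U ∧ V ≤ qY ⁻¹ᵁ U) →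
      Function.Injective (p'.app V).hom ∧
        ∀ s, (∀ g : G, IsQuot.pull hρ₂ g V s = s) → s ∈ Set.range (p'.app V).hom := by
    rintro V hV ⟨U, hU, hVU⟩
    have hXle : p' ⁻¹ᵁ V ≤ pX ⁻¹ᵁ (p ⁻¹ᵁ U) := fun x hx => by
      show p (pX x) ∈ U
      rw [← Scheme.Hom.comp_apply, hX.w]
      exact hVU hx
    have hUY : p' ⁻¹ᵁ V = pX ⁻¹ᵁ (p ⁻¹ᵁ U) ⊓ p' ⁻¹ᵁ V := (inf_eq_right.mpr hXle).symm
    have hpo := (isIso_pushoutSection_iff hX hVU le_rfl hUY).mp
      (isIso_pushoutSection_of_isAffineOpen hX hVU le_rfl hUY hU hV (hU.preimage p))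
    let := (p.app U).hom.toAlgebra
    let := (qY.appLE U V hVU).hom.toAlgebra
    let := (p'.app V).hom.toAlgebra
    let := (pX.appLE (p ⁻¹ᵁ U) (p' ⁻¹ᵁ V) hXle).hom.toAlgebra
    let := ((p'.app V).hom.comp (qY.appLE U V hVU).hom).toAlgebra
    have : IsScalarTower Γ(Y, U) Γ(Y', V) Γ(X', p' ⁻¹ᵁ V) := .of_algebraMap_eq fun _ => rfl
    have hw : p.app U ≫ pX.appLE (p ⁻¹ᵁ U) (p' ⁻¹ᵁ V) hXle = qY.appLE U V hVU ≫ p'.app V := by
      simp only [Scheme.Hom.app_eq_appLE, Scheme.Hom.appLE_comp_appLE, hX.w]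
    have : IsScalarTower Γ(Y, U) Γ(X, p ⁻¹ᵁ U) Γ(X', p' ⁻¹ᵁ V) :=
      .of_algebraMap_eq fun b => congr($(hw.symm) b)
    have : Algebra.IsPushout Γ(Y, U) Γ(Y', V) Γ(X, p ⁻¹ᵁ U) Γ(X', p' ⁻¹ᵁ V) := by
      refine CommRingCat.isPushout_iff_isPushout.mp ?_
      show IsPushout (qY.appLE U V hVU) (p.app U) (p'.app V) (pX.appLE (p ⁻¹ᵁ U) (p' ⁻¹ᵁ V) hXle)
      simp only [Scheme.Hom.app_eq_appLE]
      exact hpo.flip
    have : Module.Flat Γ(Y, U) Γ(Y', V) := qY.flat_appLE hU hV hVU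
    have hcb : ∀ g b, IsQuot.pull hp.inv g U (p.app U b) = p.app U b := fun g b => by
      rw [← CommRingCat.comp_apply, IsQuot.app_pull hp]
    have hcb' : ∀ g b, IsQuot.pull hρ₂ g V (p'.app V b) = p'.app V b := fun g b => by
      rw [← CommRingCat.comp_apply, IsQuot.pull, Scheme.Hom.app_eq_appLE,
        Scheme.Hom.appLE_comp_appLE]
      simp only [hρ₂ g]
    let σ : G → (Γ(X, p ⁻¹ᵁ U) →ₐ[Γ(Y, U)] Γ(X, p ⁻¹ᵁ U)) := fun g =>
      { __ := (IsQuot.pull hp.inv g U).hom, commutes' := hcb g }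
    let σ' : G → (Γ(X', p' ⁻¹ᵁ V) →ₐ[Γ(Y', V)] Γ(X', p' ⁻¹ᵁ V)) := fun g =>
      { __ := (IsQuot.pull hρ₂ g V).hom, commutes' := hcb' g }
    refine range_of_fixed (B := Γ(Y, U)) (B' := Γ(Y', V)) (A := Γ(X, p ⁻¹ᵁ U))
      (A' := Γ(X', p' ⁻¹ᵁ V)) (hp.injective U) σ σ' (fun g a => ?_)
      (fun a ha => (hp.range_iff U a).mpr ha)
    show IsQuot.pull hρ₂ g V (pX.appLE (p ⁻¹ᵁ U) (p' ⁻¹ᵁ V) hXle a) =
      pX.appLE (p ⁻¹ᵁ U) (p' ⁻¹ᵁ V) hXle (IsQuot.pull hp.inv g U a)
    rw [← CommRingCat.comp_apply, ← CommRingCat.comp_apply, IsQuot.pull, IsQuot.pull,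
      Scheme.Hom.appLE_comp_appLE, Scheme.Hom.appLE_comp_appLE]
    simp only [hρ₁ g]
  refine Local.isQuot_of_basis
    (B := {V : Y'.Opens | IsAffineOpen V ∧ ∃ U : Y.Opens, IsAffineOpen U ∧ V ≤ qY ⁻¹ᵁ U})
    ?_ hρ₂ (fun V hV => (key V hV.1 hV.2).1) (fun V hV => (key V hV.1 hV.2).2)
  refine Opens.isBasis_iff_nbhd.mpr fun {O x} hx => ?_
  obtain ⟨_, ⟨U, hU, rfl⟩, hy, -⟩ :=
    Y.isBasis_affineOpens.exists_subset_of_mem_open (Set.mem_univ (qY x)) isOpen_univ
  obtain ⟨_, ⟨V, hV, rfl⟩, hxV, hVO⟩ := Y'.isBasis_affineOpens.exists_subset_of_mem_open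
    (show x ∈ (O ⊓ qY ⁻¹ᵁ U : Y'.Opens) from ⟨hx, hy⟩) (O ⊓ qY ⁻¹ᵁ U).isOpen
  exact ⟨V, ⟨hV, U, hU, fun z hz => (hVO hz).2⟩, hxV, fun z hz => (hVO hz).1⟩

end Groth.Agent.Lib.SchQuot.FlatBaseChange
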