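import Groth.Agent.Lib.SchQuot.Affine
import Mathlib.CategoryTheory.Conj

/-!
The quotient of an affine scheme is affine.
-/

universe u

open CategoryTheory AlgebraicGeometry TopologicalSpace Opposite

namespace Groth.Agent.Lib.SchQuot.AffineTarget

theorem isAffine {X Y : Scheme.{u}} {G : Type u} [Group G] [Finite G] {ρ : G →* Aut X}
    {p : X ⟶ Y} (hp : SGA1.IsQuot ρ p) [IsAffine X] : IsAffine Y := by
  let e := X.isoSpec
  let ρ' : G →* Aut (Spec Γ(X, ⊤)) := e.conjAut.toMonoidHom.comp ρ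
  have hρ' : ∀ g : G, (ρ' g).hom = Spec.map (ρ g).hom.appTop := fun g => by
    show (e.conjAut (ρ g)).hom = _
    rw [Iso.conjAut_hom, Iso.conj_apply, Iso.inv_comp_eq]
    exact (Scheme.toSpecΓ_naturality _)
  have hq : SGA1.IsQuot ρ' (Spec.map p.appTop) := by
    refine Affine.isQuot_specMap p.appTop (fun g : G => (ρ g).hom.appTop) (hp.injective ⊤)
      (fun g => by rw [← Scheme.Hom.comp_appTop, hp.inv]) (fun x hx => ?_) ρ' ?_
    · refine (hp.range_iff ⊤ x).mpr fun g => ?_
      refine Eq.trans ?_ (hx g)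
      simp only [Scheme.Hom.appTop, Scheme.Hom.app_eq_appLE]
      rfl
    · simp only [hρ']
  obtain ⟨d, hd, -⟩ := IsQuot.existsUnique_desc hq (e.inv ≫ p) fun g => by
    show (e.conjAut (ρ g)).hom ≫ e.inv ≫ p = _
    rw [Iso.conjAut_hom, Iso.conj_apply, Category.assoc, Category.assoc, Iso.hom_inv_id_assoc,
      hp.inv]
  have hnat : p ≫ Y.toSpecΓ = e.hom ≫ Spec.map p.appTop := Scheme.toSpecΓ_naturality p
  refine ⟨⟨d, ?_, ?_⟩⟩
  · refine (IsQuot.existsUnique_desc hp p hp.inv).unique ?_ (Category.comp_id _)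
    rw [reassoc_of% hnat, hd, Iso.hom_inv_id_assoc]
  · refine (IsQuot.existsUnique_desc hq (Spec.map p.appTop) hq.inv).unique ?_ (Category.comp_id _)
    rw [reassoc_of% hd, hnat, Iso.inv_hom_id_assoc]

end Groth.Agent.Lib.SchQuot.AffineTarget
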