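import Groth.Agent.S13606
import Groth.Agent.Lib.SchQuot.AffineTarget

/-!
Restricting a group action and a quotient to invariant opens.
-/

universe u

open CategoryTheory AlgebraicGeometry TopologicalSpace Opposite

namespace Groth.Agent.Lib.SchQuot.Restrict

variable {X Y : Scheme.{u}} {G : Type u} [Group G] (ρ : G →* Aut X) (U : X.Opens)
  (hU : ∀ g : G, U ≤ (ρ g).hom ⁻¹ᵁ U)

/-- The restriction of a group action to an invariant open. -/
noncomputable def restrictAct : G →* Aut U.toScheme where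
  toFun g :=
    { hom := (ρ g).hom.resLE U U (hU g)
      inv := (ρ g⁻¹).hom.resLE U U (hU g⁻¹)
      hom_inv_id := by
        rw [← cancel_mono U.ι, Category.assoc, Scheme.Hom.resLE_comp_ι,
          Scheme.Hom.resLE_comp_ι_assoc, ← IsQuot.hom_mul_hom, inv_mul_cancel, IsQuot.hom_one,
          Category.id_comp, Category.comp_id]
      inv_hom_id := by
        rw [← cancel_mono U.ι, Category.assoc, Scheme.Hom.resLE_comp_ι,
          Scheme.Hom.resLE_comp_ι_assoc, ← IsQuot.hom_mul_hom, mul_inv_cancel, IsQuot.hom_one,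
          Category.id_comp, Category.comp_id] }
  map_one' := by
    refine Iso.ext ?_
    show (ρ 1).hom.resLE U U (hU 1) = 𝟙 _
    rw [← cancel_mono U.ι, Scheme.Hom.resLE_comp_ι, IsQuot.hom_one, Category.id_comp,
      Category.comp_id]
  map_mul' g h := by
    refine Iso.ext ?_
    show (ρ (g * h)).hom.resLE U U (hU (g * h)) =
      (ρ h).hom.resLE U U (hU h) ≫ (ρ g).hom.resLE U U (hU g)
    rw [← cancel_mono U.ι, Category.assoc, Scheme.Hom.resLE_comp_ι, Scheme.Hom.resLE_comp_ι,
      Scheme.Hom.resLE_comp_ι_assoc, IsQuot.hom_mul_hom]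

theorem restrictAct_ι (g : G) : (restrictAct ρ U hU g).hom ≫ U.ι = U.ι ≫ (ρ g).hom :=
  Scheme.Hom.resLE_comp_ι _ _

variable {ρ} {p : X ⟶ Y}

theorem isQuot [Finite G] (hp : SGA1.IsQuot ρ p) (V : Y.Opens) :
    SGA1.IsQuot (restrictAct ρ (p ⁻¹ᵁ V) fun g => SGA1.preimage_le_of_inv ρ p hp.inv g V) (p ∣_ V) :=
  Groth.Agent.S13606.result ρ p hp V _ fun g => restrictAct_ι _ _ _ g

theorem isAffineOpen [Finite G] (hp : SGA1.IsQuot ρ p) {V : Y.Opens}
    (h : IsAffineOpen (p ⁻¹ᵁ V)) : IsAffineOpen V := by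
  have : IsAffine (p ⁻¹ᵁ V).toScheme := h
  exact AffineTarget.isAffine (isQuot hp V)

end Groth.Agent.Lib.SchQuot.Restrict
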