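import Groth.Agent.Lib.SchQuot.Local
import Groth.Agent.Lib.SchQuot.IsQuot

/-!
Transport of quotients along isomorphisms, and locality on the target.
-/

universe u

open CategoryTheory AlgebraicGeometry TopologicalSpace Opposite

namespace Groth.Agent.Lib.SchQuot.Transport

variable {X Y : Scheme.{u}} {G : Type u} [Group G] {ρ : G →* Aut X} {p : X ⟶ Y}

theorem isQuot_of_iso (hp : SGA1.IsQuot ρ p) {X' Y' : Scheme.{u}} (e : X' ≅ X) (e' : Y ≅ Y')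
    (ρ' : G →* Aut X') (hρ : ∀ g, (ρ' g).hom ≫ e.hom = e.hom ≫ (ρ g).hom) :
    SGA1.IsQuot ρ' (e.hom ≫ p ≫ e'.hom) := by
  have := hp.affine
  have hinv : ∀ g, (ρ' g).hom ≫ e.hom ≫ p ≫ e'.hom = e.hom ≫ p ≫ e'.hom := fun g => by
    rw [reassoc_of% (hρ g), reassoc_of% (hp.inv g)]
  refine ⟨inferInstance, hinv, fun V => ?_, fun V s => ?_⟩
  · have h2 := ConcreteCategory.bijective_of_isIso (e'.hom.app V)
    have h1 := ConcreteCategory.bijective_of_isIso (e.hom.app (p ⁻¹ᵁ e'.hom ⁻¹ᵁ V))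
    exact h1.1.comp ((hp.injective (e'.hom ⁻¹ᵁ V)).comp h2.1)
  · constructor
    · rintro ⟨b, rfl⟩ g
      rw [← CommRingCat.comp_apply, Scheme.Hom.app_eq_appLE, Scheme.Hom.appLE_comp_appLE]
      simp only [hinv g]
    · intro hs
      have h2 := ConcreteCategory.bijective_of_isIso (e'.hom.app V)
      have h1 := ConcreteCategory.bijective_of_isIso (e.hom.app (p ⁻¹ᵁ e'.hom ⁻¹ᵁ V))
      obtain ⟨t, rfl⟩ := h1.2 s
      have hcomm : ∀ g, (ρ g).hom.appLE _ _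
            (SGA1.preimage_le_of_inv ρ p hp.inv g (e'.hom ⁻¹ᵁ V)) ≫
            e.hom.app (p ⁻¹ᵁ e'.hom ⁻¹ᵁ V) =
          e.hom.app (p ⁻¹ᵁ e'.hom ⁻¹ᵁ V) ≫ (ρ' g).hom.appLE _ _
            (SGA1.preimage_le_of_inv ρ' _ hinv g V) := fun g => by
        simp only [Scheme.Hom.app_eq_appLE]
        rw [Scheme.Hom.appLE_comp_appLE]
        exact Eq.trans (by simp only [hρ g]) (Scheme.Hom.appLE_comp_appLE _ _ _ _ _ _ _).symm
      have ht : ∀ g : G, ((ρ g).hom.appLE _ _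
          (SGA1.preimage_le_of_inv ρ p hp.inv g (e'.hom ⁻¹ᵁ V))).hom t = t := fun g =>
        h1.1 (by rw [← CommRingCat.comp_apply, hcomm]; exact hs g)
      obtain ⟨b, rfl⟩ := (hp.range_iff _ t).mpr ht
      obtain ⟨a, rfl⟩ := h2.2 b
      exact ⟨a, rfl⟩

theorem ι_appLE_bijective {Z : Scheme.{u}} (O : Z.Opens) (V : Z.Opens) (W : O.toScheme.Opens)
    (e : W ≤ O.ι ⁻¹ᵁ V) (h : O.ι ''ᵁ W = V) : Function.Bijective (O.ι.appLE V W e).hom := by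
  have : IsIso (O.ι.appLE V W e) := by
    subst h
    have h1 : O.ι.appLE (O.ι ''ᵁ W) W e = Z.presheaf.map (𝟙 (op (O.ι ''ᵁ W))) := by
      rw [Scheme.Opens.ι_appLE]
      rfl
    rw [h1]
    exact Functor.map_isIso Z.presheaf _
  exact ConcreteCategory.bijective_of_isIso _

theorem isQuot_of_cover [IsAffineHom p] (hinv : ∀ g : G, (ρ g).hom ≫ p = p)
    {ι : Type*} (U : ι → Y.Opens) (hcov : ⨆ i, U i = ⊤)
    (h : ∀ i, ∃ ρU : G →* Aut (p ⁻¹ᵁ U i).toScheme,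
      (∀ g : G, (ρU g).hom ≫ (p ⁻¹ᵁ U i).ι = (p ⁻¹ᵁ U i).ι ≫ (ρ g).hom) ∧
        SGA1.IsQuot ρU (p ∣_ U i)) :
    SGA1.IsQuot ρ p := by
  have key : ∀ i, ∀ V ≤ U i, Function.Injective (p.app V).hom ∧
      ∀ s : Γ(X, p ⁻¹ᵁ V), (∀ g : G, IsQuot.pull hinv g V s = s) →
        s ∈ Set.range (p.app V).hom := by
    intro i V hV
    obtain ⟨ρU, hρU, hq⟩ := h i
    set W := (U i).ι ⁻¹ᵁ V
    have hW : (U i).ι ''ᵁ W = V := by
      rw [Scheme.Hom.image_preimage_eq_opensRange_inf, Scheme.Opens.opensRange_ι]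
      exact inf_eq_right.mpr hV
    have hWX : (p ⁻¹ᵁ U i).ι ''ᵁ ((p ∣_ U i) ⁻¹ᵁ W) = p ⁻¹ᵁ V := by
      rw [image_morphismRestrict_preimage, hW]
    have hle : (p ∣_ U i) ⁻¹ᵁ W ≤ (p ⁻¹ᵁ U i).ι ⁻¹ᵁ (p ⁻¹ᵁ V) := fun x hx => by
      have hm : (p ⁻¹ᵁ U i).ι x ∈ (p ⁻¹ᵁ U i).ι ''ᵁ ((p ∣_ U i) ⁻¹ᵁ W) := ⟨x, hx, rfl⟩
      rw [hWX] at hm
      exact hm
    have hψ : p.app V ≫ (p ⁻¹ᵁ U i).ι.appLE _ _ hle =
        (U i).ι.appLE V W le_rfl ≫ (p ∣_ U i).app W := by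
      rw [Scheme.Hom.app_eq_appLE, Scheme.Hom.app_eq_appLE, Scheme.Hom.appLE_comp_appLE,
        Scheme.Hom.appLE_comp_appLE]
      simp only [morphismRestrict_ι]
    have hbψ := ι_appLE_bijective (U i) V W le_rfl hW
    have hbφ := ι_appLE_bijective (p ⁻¹ᵁ U i) _ _ hle hWX
    refine ⟨fun a b hab => hbψ.1 (hq.injective W ?_), fun s hs => ?_⟩
    · rw [← CommRingCat.comp_apply, ← CommRingCat.comp_apply, ← hψ, CommRingCat.comp_apply,
        CommRingCat.comp_apply]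
      exact congrArg _ hab
    · obtain ⟨b, hb⟩ := (hq.range_iff W ((p ⁻¹ᵁ U i).ι.appLE _ _ hle s)).mpr fun g => by
        rw [← CommRingCat.comp_apply, Scheme.Hom.appLE_comp_appLE]
        simp only [hρU g]
        conv_rhs => rw [← hs g, IsQuot.pull, ← CommRingCat.comp_apply, Scheme.Hom.appLE_comp_appLE]
      obtain ⟨a, rfl⟩ := hbψ.2 b
      refine ⟨a, hbφ.1 ?_⟩
      rw [← CommRingCat.comp_apply, hψ]
      exact hb
  refine Local.isQuot_of_basis (B := {V : Y.Opens | ∃ i, V ≤ U i}) ?_ hinv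
    (fun V ⟨i, hi⟩ => (key i V hi).1) (fun V ⟨i, hi⟩ => (key i V hi).2)
  refine Opens.isBasis_iff_nbhd.mpr fun {V x} hx => ?_
  obtain ⟨i, hi⟩ := Opens.mem_iSup.mp (show x ∈ ⨆ i, U i from hcov ▸ trivial)
  exact ⟨V ⊓ U i, ⟨i, inf_le_right⟩, ⟨hx, hi⟩, inf_le_left⟩

end Groth.Agent.Lib.SchQuot.Transport
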