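import Groth.Agent.Lib.SchQuot.Restrict
import Mathlib.AlgebraicGeometry.Morphisms.Finite
import Mathlib.AlgebraicGeometry.Morphisms.Separated
import Mathlib.AlgebraicGeometry.Noetherian
import Mathlib.RingTheory.Adjoin.Tower

/-!
Properties of the structure map of a quotient by a finite group.
-/

universe u

open CategoryTheory CategoryTheory.Limits AlgebraicGeometry TopologicalSpace Opposite

namespace Groth.Agent.Lib.SchQuot.Props

variable {X Y Z : Scheme.{u}} {G : Type u} [Group G] [Finite G] {ρ : G →* Aut X} {p : X ⟶ Y}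
  (hp : SGA1.IsQuot ρ p) (q : Y ⟶ Z)
include hp

theorem isAffineHom_of_comp (h : IsAffineHom (p ≫ q)) : IsAffineHom q :=
  ⟨fun _ hW => Restrict.isAffineOpen hp (hW.preimage (p ≫ q))⟩

theorem isSeparated_of_comp (h : IsSeparated (p ≫ q)) : IsSeparated q := by
  refine ⟨IsClosedImmersion.of_isPreimmersion _ ?_⟩
  have := IsQuot.isIntegralHom hp
  let m := pullback.map (p ≫ q) (p ≫ q) q q p p (𝟙 Z) (Category.comp_id _) (Category.comp_id _)
  have : IsIntegralHom m :=
    MorphismProperty.pullbackMap (P := @IsIntegralHom) (i₁ := p) (i₂ := p) inferInstance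
      inferInstance rfl rfl
  have hd : pullback.diagonal (p ≫ q) ≫ m = p ≫ pullback.diagonal q := by
    ext <;> simp only [m, Category.assoc, pullback.lift_fst, pullback.lift_snd, pullback.diagonal_fst_assoc, pullback.diagonal_snd_assoc, pullback.diagonal_fst, pullback.diagonal_snd, Category.comp_id]
  have hr : Set.range (pullback.diagonal q) = m '' Set.range (pullback.diagonal (p ≫ q)) := by
    rw [← Set.range_comp, ← (IsQuot.surjective hp).range_comp]
    exact congrArg (fun f : X ⟶ pullback q q => Set.range f.base) hd.symm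
  rw [hr]
  exact m.isClosedMap _ (pullback.diagonal (p ≫ q)).isClosedEmbedding.isClosed_range

theorem isFinite_of_comp (h : LocallyOfFiniteType (p ≫ q)) : IsFinite p :=
  (IsFinite.iff_isIntegralHom_and_locallyOfFiniteType p).mpr
    ⟨IsQuot.isIntegralHom hp, locallyOfFiniteType_of_comp p q⟩

theorem quasiCompact_of_comp (h : QuasiCompact (p ≫ q)) : QuasiCompact q := by
  refine ⟨fun W hWo hW => ?_⟩
  have := (QuasiCompact.isCompact_preimage (f := p ≫ q) W hWo hW).image p.continuous
  rwa [show (p ≫ q) ⁻¹' W = p ⁻¹' (q ⁻¹' W) from rfl,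
    (IsQuot.surjective hp).image_preimage] at this

theorem locallyOfFiniteType_of_comp' [IsLocallyNoetherian Z]
    (h : LocallyOfFiniteType (p ≫ q)) : LocallyOfFiniteType q := by
  refine ⟨fun {W} hW {U} hU e => ?_⟩
  have := isFinite_of_comp hp q h
  have := hp.affine
  have hV : IsAffineOpen (p ⁻¹ᵁ U) := hU.preimage p
  have e' : p ⁻¹ᵁ U ≤ (p ≫ q) ⁻¹ᵁ W := fun x hx => e hx
  have hft : ((p ≫ q).appLE W (p ⁻¹ᵁ U) e').hom.FiniteType :=
    (p ≫ q).finiteType_appLE hW hV e'
  have : IsNoetherianRing Γ(Z, W) := IsLocallyNoetherian.component_noetherian ⟨W, hW⟩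
  let := (q.appLE W U e).hom.toAlgebra
  let := (p.app U).hom.toAlgebra
  let := ((p ≫ q).appLE W (p ⁻¹ᵁ U) e').hom.toAlgebra
  have : IsScalarTower Γ(Z, W) Γ(Y, U) Γ(X, p ⁻¹ᵁ U) := .of_algebraMap_eq fun r => by
    show (p ≫ q).appLE W (p ⁻¹ᵁ U) e' r = p.app U (q.appLE W U e r)
    rw [← CommRingCat.comp_apply, Scheme.Hom.app_eq_appLE, Scheme.Hom.appLE_comp_appLE]
  exact ⟨fg_of_fg_of_fg Γ(Z, W) Γ(Y, U) Γ(X, p ⁻¹ᵁ U) hft.out (p.finite_app U hU).fg_top
    (hp.injective U)⟩

end Groth.Agent.Lib.SchQuot.Props
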