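import Groth.Agent.Lib.SchQuot.Local
import Mathlib.RingTheory.Invariant.Basic

/-!
The quotient of an affine scheme by a finite group: `Spec A → Spec (A^G)`.
-/

universe u

open CategoryTheory AlgebraicGeometry TopologicalSpace Opposite

namespace Groth.Agent.Lib.SchQuot.Affine

/-- A basic open of `Spec R`, as an open of the scheme. -/
def basic {R : CommRingCat.{u}} (r : R) : (Spec R).Opens := PrimeSpectrum.basicOpen r

theorem isBasis_basic (R : CommRingCat.{u}) :
    Opens.IsBasis (Set.range (basic : R → (Spec R).Opens)) :=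
  PrimeSpectrum.isBasis_basic_opens

set_option backward.isDefEq.respectTransparency.types false in
instance {R : CommRingCat.{u}} (r : R) : IsLocalization.Away r Γ(Spec R, basic r) :=
  inferInstanceAs (IsLocalization.Away r
    ((Spec.structureSheaf R).obj.obj (op <| PrimeSpectrum.basicOpen r)))

theorem algebraMap_appLE {R S : CommRingCat.{u}} (φ : R ⟶ S) {U : (Spec R).Opens}
    {V : (Spec S).Opens} (e : V ≤ (Spec.map φ) ⁻¹ᵁ U) (r : R) :
    (Spec.map φ).appLE U V e (algebraMap R Γ(Spec R, U) r) = algebraMap S Γ(Spec S, V) (φ r) := by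
  rw [IsAffineOpen.algebraMap_Spec_obj, IsAffineOpen.algebraMap_Spec_obj]
  simp only [← CommRingCat.comp_apply]
  congr 2
  rw [Scheme.ΓSpecIso_inv_naturality_assoc, Category.assoc,
    Scheme.Hom.map_appLE]
  simp only [Scheme.Hom.appTop, Scheme.Hom.app_eq_appLE]
  exact congrArg (_ ≫ ·) (Scheme.Hom.appLE_map _ _ _).symm

/-- If `B ≅ A^G` then `Spec A → Spec B` is the quotient by `G`. -/
theorem isQuot_specMap {G : Type u} [Group G] {ι : Type*} [Finite ι] {A B : CommRingCat.{u}}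
    (φ : B ⟶ A) (σ : ι → (A ⟶ A)) (hφ : Function.Injective φ.hom) (hσ : ∀ k, φ ≫ σ k = φ)
    (hfix : ∀ x : A, (∀ k, σ k x = x) → x ∈ Set.range φ.hom) (ρ : G →* Aut (Spec A))
    (hρ : Set.range (fun g : G => (ρ g).hom) = Set.range (fun k => Spec.map (σ k))) :
    SGA1.IsQuot ρ (Spec.map φ) := by
  have hinv : ∀ g : G, (ρ g).hom ≫ Spec.map φ = Spec.map φ := fun g => by
    obtain ⟨k, hk⟩ := hρ.le ⟨g, rfl⟩
    simp only at hk
    rw [← hk, ← Spec.map_comp, hσ]
  refine Local.isQuot_of_basis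
    (B := Set.range (basic : B → (Spec B).Opens)) (isBasis_basic B) hinv ?_ ?_
  · rintro _ ⟨b, rfl⟩
    have hloc : IsLocalization.Away (φ b) Γ(Spec A, (Spec.map φ) ⁻¹ᵁ basic b) :=
      inferInstanceAs (IsLocalization.Away (φ b) Γ(Spec A, basic (φ b)))
    refine (injective_iff_map_eq_zero _).mpr fun (s : Γ(Spec B, basic b)) hs => ?_
    obtain ⟨⟨x, ⟨_, n, rfl⟩⟩, hx⟩ := IsLocalization.surj (Submonoid.powers b) s
    have h0 : algebraMap A Γ(Spec A, (Spec.map φ) ⁻¹ᵁ basic b) (φ x) = 0 := by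
      have := congrArg ((Spec.map φ).app (basic b)).hom hx
      rw [map_mul, hs, zero_mul, Scheme.Hom.app_eq_appLE, algebraMap_appLE] at this
      exact this.symm
    obtain ⟨⟨_, m, rfl⟩, hm⟩ := (IsLocalization.map_eq_zero_iff
      (Submonoid.powers (φ b)) _ _).mp h0
    have hm' : b ^ m * x = 0 := hφ (by simpa using hm)
    have hu : IsUnit (algebraMap B Γ(Spec B, basic b) (b ^ n)) :=
      IsLocalization.map_units _ (⟨b ^ n, n, rfl⟩ : Submonoid.powers b)
    exact (hu.mul_left_eq_zero).mp (hx.trans ((IsLocalization.map_eq_zero_iff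
      (Submonoid.powers b) _ _).mpr ⟨⟨b ^ m, m, rfl⟩, hm'⟩))
  · rintro _ ⟨b, rfl⟩ (s : Γ(Spec A, (Spec.map φ) ⁻¹ᵁ basic b)) hs
    have hloc : IsLocalization.Away (φ b) Γ(Spec A, (Spec.map φ) ⁻¹ᵁ basic b) :=
      inferInstanceAs (IsLocalization.Away (φ b) Γ(Spec A, basic (φ b)))
    obtain ⟨⟨x, ⟨_, n, rfl⟩⟩, hx⟩ := IsLocalization.surj (Submonoid.powers (φ b)) s
    have hσb : ∀ k, σ k (φ b) = φ b := fun k => by
      rw [← CommRingCat.comp_apply, hσ]
    have hgx : ∀ k, ∃ m, φ b ^ m * σ k x = φ b ^ m * x := by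
      intro k
      obtain ⟨g, hg⟩ := hρ.ge ⟨k, rfl⟩
      simp only at hg
      have h1 := congrArg (IsQuot.pull hinv g (basic b)).hom hx
      rw [map_mul, hs] at h1
      unfold IsQuot.pull at h1
      simp only [hg] at h1
      rw [algebraMap_appLE, algebraMap_appLE, map_pow, hσb, hx] at h1
      obtain ⟨⟨_, m, rfl⟩, hm⟩ := IsLocalization.exists_of_eq
        (M := Submonoid.powers (φ b)) h1
      exact ⟨m, hm.symm⟩
    choose m hm using hgx
    cases nonempty_fintype ι
    set M := Finset.univ.sup m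
    have hM : ∀ k, φ b ^ M * σ k x = φ b ^ M * x := by
      intro k
      obtain ⟨d, hd⟩ := Nat.exists_eq_add_of_le (Finset.le_sup (Finset.mem_univ k) : m k ≤ M)
      rw [show M = m k + d from hd, pow_add, mul_comm (φ b ^ m k) (φ b ^ d), mul_assoc, mul_assoc,
        hm]
    obtain ⟨c, hc⟩ := hfix (φ b ^ M * x) fun k => by
      rw [map_mul, map_pow, hσb, hM]
    have hu : IsUnit (algebraMap B Γ(Spec B, basic b) (b ^ (M + n))) :=
      IsLocalization.map_units _ (⟨b ^ (M + n), M + n, rfl⟩ : Submonoid.powers b)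
    have huA : IsUnit (algebraMap A Γ(Spec A, (Spec.map φ) ⁻¹ᵁ basic b)
        (φ b ^ (M + n))) :=
      IsLocalization.map_units _ (⟨_, M + n, rfl⟩ : Submonoid.powers (φ b))
    refine ⟨(hu.unit⁻¹ : (Γ(Spec B, basic b))ˣ) * algebraMap B _ c,
      huA.mul_left_cancel ?_⟩
    have e : algebraMap A Γ(Spec A, (Spec.map φ) ⁻¹ᵁ basic b) (φ b ^ (M + n)) =
        (Spec.map φ).app (basic b) (algebraMap B _ (b ^ (M + n))) := by
      rw [Scheme.Hom.app_eq_appLE, algebraMap_appLE, map_pow, map_pow, map_pow]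
    refine (congrArg (· * _) e).trans ((map_mul _ _ _).symm.trans ?_)
    rw [← mul_assoc, IsUnit.mul_val_inv, one_mul, Scheme.Hom.app_eq_appLE, algebraMap_appLE]
    rw [show φ c = φ b ^ M * x from hc, pow_add, map_mul, map_mul, mul_assoc, ← hx]
    ring

end Groth.Agent.Lib.SchQuot.Affine
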