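import Groth.Agent.Lib.SchQuot.FlatBaseChange
import Groth.Agent.Lib.SchQuot.Props
import Groth.Agent.Lib.SourceDescent.Scheme
import Mathlib.AlgebraicGeometry.Morphisms.Proper
import Mathlib.AlgebraicGeometry.Morphisms.FormallyUnramified
import Mathlib.AlgebraicGeometry.Morphisms.Etale

/-!
Quotients of étale separated morphisms by finite groups are étale.

After base change along the étale map `f` the quotient map acquires an open section, the image of
the diagonal, so it is étale.
-/

universe u

open CategoryTheory CategoryTheory.Limits AlgebraicGeometry TopologicalSpace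

namespace Groth.Agent.Lib.SchQuot.Etale'

variable {X Q Y : Scheme.{u}} {G : Type u} [Group G] [Finite G] {ρ : G →* Aut X} {f : X ⟶ Y}
  {p : X ⟶ Q} {q : Q ⟶ Y}

/-- A morphism open immersions cover detects vanishing of sections. -/
theorem eq_zero_of_pullbacks {Z : Scheme.{u}} {ι : Type*} {S : ι → Scheme.{u}}
    (i : ∀ k, S k ⟶ Z) [∀ k, IsOpenImmersion (i k)] {V : Z.Opens}
    (hcov : ∀ z ∈ V, ∃ k, z ∈ Set.range (i k)) (b : Γ(Z, V))
    (h : ∀ k, (i k).app V b = 0) : b = 0 := by
  refine Z.IsSheaf.section_ext fun z hz => ?_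
  obtain ⟨k, x, rfl⟩ := hcov z hz
  refine ⟨V ⊓ (i k).opensRange, inf_le_left, ⟨hz, x, rfl⟩, ?_⟩
  have hiso : IsIso ((i k).app (V ⊓ (i k).opensRange)) := (i k).isIso_app _ inf_le_right
  have hinj : Function.Injective ((i k).app (V ⊓ (i k).opensRange)).hom :=
    (ConcreteCategory.bijective_of_isIso ((i k).app (V ⊓ (i k).opensRange))).1
  refine hinj ?_
  rw [map_zero, map_zero, ← CommRingCat.comp_apply, Scheme.Hom.naturality, CommRingCat.comp_apply,
    h k, map_zero]

variable (hρ : ∀ g : G, (ρ g).hom ≫ f = f)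

/-- The action on the first factor of `X ×[Y] X`. -/
noncomputable def actFst : G →* Aut (pullback f f) where
  toFun g :=
    { hom := pullback.map f f f f (ρ g).hom (𝟙 X) (𝟙 Y) (by rw [Category.comp_id, hρ]) (by simp)
      inv := pullback.map f f f f (ρ g⁻¹).hom (𝟙 X) (𝟙 Y) (by rw [Category.comp_id, hρ]) (by simp)
      hom_inv_id := by
        apply pullback.hom_ext
        · simp only [Category.assoc, pullback.map, pullback.lift_fst, pullback.lift_fst_assoc,
            Category.id_comp]
          rw [← IsQuot.hom_mul_hom, inv_mul_cancel, IsQuot.hom_one, Category.comp_id]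
        · rw [pullback.map, pullback.map, Category.assoc, pullback.lift_snd, pullback.lift_snd_assoc,
            Category.comp_id, Category.comp_id, Category.id_comp]
      inv_hom_id := by
        apply pullback.hom_ext
        · simp only [Category.assoc, pullback.map, pullback.lift_fst, pullback.lift_fst_assoc,
            Category.id_comp]
          rw [← IsQuot.hom_mul_hom, mul_inv_cancel, IsQuot.hom_one, Category.comp_id]
        · rw [pullback.map, pullback.map, Category.assoc, pullback.lift_snd, pullback.lift_snd_assoc,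
            Category.comp_id, Category.comp_id, Category.id_comp] }
  map_one' := Iso.ext (by
    apply pullback.hom_ext
    · simp only [pullback.map, pullback.lift_fst]
      rw [IsQuot.hom_one, Category.comp_id]
      exact (Category.id_comp _).symm
    · simp only [pullback.map, Category.comp_id]
      rw [pullback.lift_snd]
      exact (Category.id_comp _).symm)
  map_mul' g h := Iso.ext (by
    apply pullback.hom_ext
    · simp only [pullback.map, pullback.lift_fst, Aut.Aut_mul_def, Iso.trans_hom, Category.assoc,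
        pullback.lift_fst_assoc]
      rw [← IsQuot.hom_mul_hom]
    · simp only [pullback.map, Aut.Aut_mul_def, Iso.trans_hom, Category.assoc, Category.comp_id]
      rw [pullback.lift_snd, pullback.lift_snd, pullback.lift_snd])

include hρ in
theorem etale_quotient [Etale f] [IsSeparated f] (hp : SGA1.IsQuot ρ p) (hq : p ≫ q = f) :
    Etale p ∧ Etale q := by
  have : IsSeparated q := Props.isSeparated_of_comp hp q (hq ▸ inferInstance)
  let p₂ : pullback f f ⟶ pullback q f :=
    pullback.map f f q f p (𝟙 X) (𝟙 Y) (by rw [Category.comp_id, hq]) (by simp)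
  have hsq : IsPullback (pullback.fst f f) p₂ p (pullback.fst q f) := by
    refine IsPullback.of_bot ?_ (pullback.lift_fst _ _ _).symm (IsPullback.of_hasPullback q f)
    rw [pullback.lift_snd, Category.comp_id, hq]
    exact IsPullback.of_hasPullback f f
  let ρ₂ := actFst hρ
  have hinv₂ : ∀ g, (ρ₂ g).hom ≫ p₂ = p₂ := fun g => by
    apply pullback.hom_ext
    · simp only [ρ₂, actFst, p₂, pullback.map, Category.assoc, pullback.lift_fst]
      dsimp only [MonoidHom.coe_mk, OneHom.coe_mk]
      rw [pullback.lift_fst_assoc, Category.assoc, hp.inv g]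
    · simp only [ρ₂, actFst, p₂, pullback.map, Category.assoc, Category.comp_id]
      dsimp only [MonoidHom.coe_mk, OneHom.coe_mk]
      rw [pullback.lift_snd, pullback.lift_snd]
  have hq₂ : SGA1.IsQuot ρ₂ p₂ := FlatBaseChange.isQuot_baseChange hp hsq ρ₂
    (fun g => pullback.lift_fst _ _ _) hinv₂
  let σ : X ⟶ pullback q f := pullback.lift p (𝟙 X) (by rw [hq, Category.id_comp])
  have hσ2 : σ ≫ pullback.snd q f = 𝟙 X := pullback.lift_snd _ _ _
  have : IsClosedImmersion (σ ≫ pullback.snd q f) := hσ2.symm ▸ inferInstance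
  have : IsClosedImmersion σ := IsClosedImmersion.of_comp σ (pullback.snd q f)
  let i : G → (X ⟶ pullback f f) := fun g => pullback.diagonal f ≫ (ρ₂ g).hom
  have hi : ∀ g, IsOpenImmersion (i g) := fun g => inferInstance
  have hiσ : ∀ g, i g ≫ p₂ = σ := fun g => by
    rw [Category.assoc, hinv₂]
    apply pullback.hom_ext
    · rw [Category.assoc, pullback.lift_fst, pullback.diagonal_fst_assoc, pullback.lift_fst]
    · rw [Category.assoc, pullback.lift_snd, pullback.diagonal_snd_assoc, pullback.lift_snd]
  have hpre : p₂ ⁻¹' Set.range σ = ⋃ g, Set.range (i g) := by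
    ext z
    constructor
    · rintro ⟨x, hx⟩
      rw [← hiσ 1, Scheme.Hom.comp_apply] at hx
      obtain ⟨g, hg⟩ := (IsQuot.apply_eq_iff hq₂ _ _).mp hx
      refine Set.mem_iUnion.mpr ⟨g, x, ?_⟩
      rw [← hg, show (i 1) x = pullback.diagonal f x from ?_, ← Scheme.Hom.comp_apply]
      simp only [i, map_one]
      rfl
    · intro hz
      obtain ⟨g, x, rfl⟩ := Set.mem_iUnion.mp hz
      exact ⟨x, by rw [← hiσ g, Scheme.Hom.comp_apply]⟩
  have hopen : IsOpen (Set.range σ) := by
    rw [← (IsQuot.isQuotientMap hq₂).isOpen_preimage, hpre]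
    exact isOpen_iUnion fun g => (i g).opensRange.2
  have hzero : ∀ (V : (pullback q f).Opens), (V : Set _) ⊆ Set.range σ →
      ∀ a, σ.app V a = 0 → a = 0 := fun V hV a ha => by
    refine hq₂.injective V ?_
    rw [map_zero]
    refine eq_zero_of_pullbacks i (fun z hz => Set.mem_iUnion.mp (hpre.le (hV hz))) _ fun g => ?_
    rw [← CommRingCat.comp_apply, ← Scheme.Hom.comp_app]
    have := Scheme.Hom.congr_app (hiσ g) V
    rw [this]
    change (X.presheaf.map _).hom ((σ.app V).hom a) = 0
    rw [show (σ.app V).hom a = 0 from ha, map_zero]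
  have : IsOpenImmersion σ := by
    suffices h : ∀ x, IsIso (σ.stalkMap x) from
      IsOpenImmersion.of_isIso_stalkMap σ ⟨σ.isClosedEmbedding.isEmbedding, hopen⟩
    intro x
    refine (ConcreteCategory.isIso_iff_bijective _).mpr
      ⟨(injective_iff_map_eq_zero _).mpr fun a ha => ?_, σ.stalkMap_surjective x⟩
    obtain ⟨V, hxV, a, rfl⟩ := TopCat.Presheaf.germ_exist _ a
    rw [Scheme.Hom.germ_stalkMap_apply] at ha
    obtain ⟨W, hxW, iW, hW'⟩ : ∃ (W : X.Opens) (_ : x ∈ W) (iW : W ⟶ σ ⁻¹ᵁ V),
        X.presheaf.map iW.op (σ.app V a) = 0 := by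
      obtain ⟨W, hxW, iW, iW', e⟩ := X.presheaf.germ_eq (U := σ ⁻¹ᵁ V) (V := σ ⁻¹ᵁ V) x hxV hxV
        (s := σ.app V a) (t := 0) (ha.trans (map_zero _).symm)
      exact ⟨W, hxW, iW, e.trans (map_zero _)⟩
    obtain ⟨O, hO, hOW⟩ := σ.isClosedEmbedding.isEmbedding.isInducing.isOpen_iff.mp W.2
    let V' : (pullback q f).Opens := V ⊓ ⟨O, hO⟩ ⊓ ⟨_, hopen⟩
    have hxV' : σ x ∈ V' := ⟨⟨hxV, hOW.ge hxW⟩, x, rfl⟩
    have hV'V : V' ≤ V := fun z hz => hz.1.1
    have h0 : (pullback q f).presheaf.map (homOfLE hV'V).op a = 0 := by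
      refine hzero V' (fun z hz => hz.2) _ ?_
      rw [← CommRingCat.comp_apply, Scheme.Hom.naturality, CommRingCat.comp_apply]
      have hle : σ ⁻¹ᵁ V' ≤ W := fun z hz => hOW.le hz.1.2
      have e : X.presheaf.map ((Opens.map σ.base).map (homOfLE hV'V)).op (σ.app V a) =
          X.presheaf.map (homOfLE hle).op (X.presheaf.map iW.op (σ.app V a)) := by
        rw [← CommRingCat.comp_apply, ← CommRingCat.comp_apply, ← Functor.map_comp]
        rfl
      exact e.trans (by rw [hW', map_zero])
    rw [← (pullback q f).presheaf.germ_res_apply (homOfLE hV'V) (σ x) hxV', h0, map_zero]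
  have hep : Etale p := by
    have e : σ ≫ pullback.fst q f = p := pullback.lift_fst _ _ _
    rw [← e]
    infer_instance
  have : Surjective p := ⟨IsQuot.surjective hp⟩
  exact ⟨hep, SourceDescent.Scheme.etale.descends p q hep inferInstance (hq.symm ▸ inferInstance)⟩

end Groth.Agent.Lib.SchQuot.Etale'
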