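import Groth.Agent.Lib.SchQuot.Transport
import Groth.Agent.Lib.SchQuot.Restrict
import Mathlib.AlgebraicGeometry.Gluing
import Mathlib.AlgebraicGeometry.Morphisms.Separated

/-!
Existence of the quotient by a finite group when every orbit lies in an affine open.
-/

universe u

open CategoryTheory CategoryTheory.Limits AlgebraicGeometry TopologicalSpace Opposite

namespace Groth.Agent.Lib.SchQuot.Existence

variable {X : Scheme.{u}} {G : Type u} [Group G] [Finite G] (ρ : G →* Aut X)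

theorem exists_quot_of_isAffine [IsAffine X] :
    ∃ (Q : Scheme.{u}) (q : X ⟶ Q), SGA1.IsQuot ρ q := by
  let e := X.isoSpec
  let σ : G → (Γ(X, ⊤) ⟶ Γ(X, ⊤)) := fun g => (ρ g).hom.appTop
  let B : Subring Γ(X, ⊤) := ⨅ g, RingHom.eqLocus (σ g).hom (RingHom.id _)
  have hB : ∀ x, x ∈ B ↔ ∀ g, σ g x = x := fun x => Subring.mem_iInf
  let φ : CommRingCat.of B ⟶ Γ(X, ⊤) := CommRingCat.ofHom B.subtype
  let ρ' : G →* Aut (Spec Γ(X, ⊤)) := e.conjAut.toMonoidHom.comp ρ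
  have hρ' : ∀ g : G, (ρ' g).hom = Spec.map (σ g) := fun g => by
    show (e.conjAut (ρ g)).hom = _
    rw [Iso.conjAut_hom, Iso.conj_apply, Iso.inv_comp_eq]
    exact (Scheme.toSpecΓ_naturality _)
  have hq : SGA1.IsQuot ρ' (Spec.map φ) :=
    Affine.isQuot_specMap φ σ Subtype.val_injective
      (fun g => CommRingCat.hom_ext (RingHom.ext fun b => (hB b.1).mp b.2 g))
      (fun x hx => ⟨⟨x, (hB x).mpr hx⟩, rfl⟩) ρ' (by simp only [hρ'])
  refine ⟨_, _, Transport.isQuot_of_iso hq e (Iso.refl _) ρ fun g => ?_⟩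
  show (ρ g).hom ≫ e.hom = e.hom ≫ (e.conjAut (ρ g)).hom
  rw [Iso.conjAut_hom, Iso.conj_apply, Iso.hom_inv_id_assoc]

theorem exists_stable_affine (x : X)
    (h : ∃ U : X.Opens, IsAffineOpen U ∧ ∀ g : G, (ρ g).hom.base x ∈ U) :
    ∃ W : X.Opens, (∀ g : G, W ≤ (ρ g).hom ⁻¹ᵁ W) ∧ IsAffineOpen W ∧ x ∈ W := by
  obtain ⟨U, hU, hx⟩ := h
  cases nonempty_fintype G
  have hmem : ∀ (s : Finset G) (V : G → X.Opens) (y : X),
      y ∈ s.inf V ↔ ∀ g ∈ s, y ∈ V g := fun s V y => by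
    rw [← SetLike.mem_coe, Opens.coe_finset_inf, Finset.inf_set_eq_iInter]
    simp
  have hstable : ∀ V : X.Opens, ∀ g : G, (Finset.univ.inf fun k => (ρ k).hom ⁻¹ᵁ V) ≤
      (ρ g).hom ⁻¹ᵁ (Finset.univ.inf fun k => (ρ k).hom ⁻¹ᵁ V) := by
    intro V g y hy
    refine (hmem _ (fun k => (ρ k).hom ⁻¹ᵁ V) _).mpr fun k _ => ?_
    have := (hmem _ (fun k => (ρ k).hom ⁻¹ᵁ V) y).mp hy (k * g) (Finset.mem_univ _)
    rw [IsQuot.hom_mul_hom] at this
    exact this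
  have hle1 : ∀ V : X.Opens, (Finset.univ.inf fun k => (ρ k).hom ⁻¹ᵁ V) ≤ V := by
    intro V
    have := Finset.inf_le (f := fun k => (ρ k).hom ⁻¹ᵁ V) (Finset.mem_univ (1 : G))
    rw [IsQuot.hom_one] at this
    exact this
  set U' := Finset.univ.inf fun k => (ρ k).hom ⁻¹ᵁ U
  have hxU' : ∀ g : G, (ρ g).hom x ∈ U' := fun g =>
    (hmem _ (fun k => (ρ k).hom ⁻¹ᵁ U) _).mpr fun k _ => by
      show (ρ k).hom ((ρ g).hom x) ∈ U
      rw [← Scheme.Hom.comp_apply, ← IsQuot.hom_mul_hom]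
      exact hx _
  obtain ⟨s, hs⟩ := (PrimeSpectrum.isClosed_iff_zeroLocus _).mp
    (hU.fromSpec ⁻¹ᵁ U').isOpen.isClosed_compl
  let P : G → Ideal Γ(X, U) := fun g => (hU.primeIdealOf ⟨(ρ g).hom x, hx g⟩).asIdeal
  obtain ⟨f, hf, hfP⟩ : ∃ f ∈ Ideal.span s, ∀ g, f ∉ P g := by
    by_contra! hcon
    have hsub : ((Ideal.span s : Ideal Γ(X, U)) : Set Γ(X, U)) ⊆
        ⋃ g ∈ ((Finset.univ : Finset G) : Set G), (P g : Set Γ(X, U)) := fun f hf => by
      obtain ⟨g, hg⟩ := hcon f hf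
      exact Set.mem_biUnion (Finset.mem_univ g) hg
    obtain ⟨g, -, hg⟩ := (Ideal.subset_union_prime 1 1 fun i _ _ _ =>
      (hU.primeIdealOf ⟨(ρ i).hom x, hx i⟩).isPrime).mp hsub
    have h1 : hU.primeIdealOf ⟨(ρ g).hom x, hx g⟩ ∈ PrimeSpectrum.zeroLocus s :=
      fun a ha => hg (Ideal.subset_span ha)
    rw [← hs] at h1
    exact h1 (show hU.fromSpec _ ∈ U' by rw [hU.fromSpec_primeIdealOf]; exact hxU' g)
  set D := X.basicOpen f
  have hDU' : D ≤ U' := by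
    intro y hy
    have hyU : y ∈ U := X.basicOpen_le f hy
    by_contra hy'
    have h1 : hU.primeIdealOf ⟨y, hyU⟩ ∈ PrimeSpectrum.zeroLocus s := by
      rw [← hs]
      intro (h2 : hU.fromSpec (hU.primeIdealOf ⟨y, hyU⟩) ∈ U')
      rw [hU.fromSpec_primeIdealOf] at h2
      exact hy' h2
    have h2 : hU.fromSpec (hU.primeIdealOf ⟨y, hyU⟩) ∈ X.basicOpen f := by
      rw [hU.fromSpec_primeIdealOf]; exact hy
    have h3 : hU.primeIdealOf ⟨y, hyU⟩ ∈ PrimeSpectrum.basicOpen f := by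
      rw [← hU.fromSpec_preimage_basicOpen]; exact h2
    exact h3 (Ideal.span_le.mpr h1 hf)
  have hD : ∀ g : G, (ρ g).hom x ∈ D := fun g => by
    have h3 : hU.primeIdealOf ⟨(ρ g).hom x, hx g⟩ ∈ PrimeSpectrum.basicOpen f := hfP g
    rw [← hU.fromSpec_preimage_basicOpen] at h3
    have h4 : hU.fromSpec (hU.primeIdealOf ⟨(ρ g).hom x, hx g⟩) ∈ X.basicOpen f := h3
    rwa [hU.fromSpec_primeIdealOf] at h4
  refine ⟨Finset.univ.inf fun k => (ρ k).hom ⁻¹ᵁ D, hstable D, ?_,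
    (hmem _ (fun k => (ρ k).hom ⁻¹ᵁ D) x).mpr fun k _ => hD k⟩
  have hle : ∀ g : G, (ρ g).hom ⁻¹ᵁ D ≤ U := fun g y hy => by
    have hy' : (ρ g).hom y ∈ U' := hDU' hy
    have h5 : (ρ g⁻¹).hom ((ρ g).hom y) ∈ U :=
      (hmem _ (fun k => (ρ k).hom ⁻¹ᵁ U) _).mp hy' g⁻¹ (Finset.mem_univ _)
    rwa [← Scheme.Hom.comp_apply, ← IsQuot.hom_mul_hom, inv_mul_cancel, IsQuot.hom_one] at h5
  have : IsAffine U.toScheme := hU
  have key : ∀ t : Finset G, IsAffineOpen (U.ι ⁻¹ᵁ t.inf fun k => (ρ k).hom ⁻¹ᵁ D) := by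
    intro t
    induction t using Finset.cons_induction with
    | empty => simpa using isAffineOpen_top U.toScheme
    | cons a t ha ih =>
      rw [Finset.inf_cons, Scheme.Hom.preimage_inf]
      refine IsAffineOpen.inf ?_ ih
      refine (U.ι.isAffineOpen_iff_of_isOpenImmersion).mp ?_
      rw [Scheme.Hom.image_preimage_eq_opensRange_inf, Scheme.Opens.opensRange_ι,
        inf_eq_right.mpr (hle a)]
      have : IsIso (ρ a).hom := ⟨(ρ a).inv, (ρ a).hom_inv_id, (ρ a).inv_hom_id⟩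
      exact (hU.basicOpen f).preimage_of_isIso (ρ a).hom
  have h6 := (U.ι.isAffineOpen_iff_of_isOpenImmersion).mpr (key Finset.univ)
  rwa [Scheme.Hom.image_preimage_eq_opensRange_inf, Scheme.Opens.opensRange_ι,
    inf_eq_right.mpr ((hle1 D).trans (hDU'.trans (hle1 U)))] at h6

variable {ρ}

/-- A quotient restricted to a smaller invariant open. -/
theorem exists_factor {W W' : X.Opens} (hW : ∀ g : G, W ≤ (ρ g).hom ⁻¹ᵁ W)
    (hW' : ∀ g : G, W' ≤ (ρ g).hom ⁻¹ᵁ W') (hle : W ≤ W') {Q : Scheme.{u}}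
    {q : W'.toScheme ⟶ Q} (hq : SGA1.IsQuot (Restrict.restrictAct ρ W' hW') q) :
    ∃ (O : Q.Opens) (q₀ : W.toScheme ⟶ O.toScheme),
      SGA1.IsQuot (Restrict.restrictAct ρ W hW) q₀ ∧ q₀ ≫ O.ι = X.homOfLE hle ≫ q := by
  set V := W'.ι ⁻¹ᵁ W
  have hsat : q ⁻¹' (q '' (V : Set W'.toScheme)) = (V : Set W'.toScheme) := by
    refine Set.Subset.antisymm ?_ (Set.subset_preimage_image _ _)
    rintro b ⟨a, ha, hab⟩
    obtain ⟨g, rfl⟩ := (IsQuot.apply_eq_iff hq a b).mp hab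
    show W'.ι ((Restrict.restrictAct ρ W' hW' g).hom a) ∈ W
    rw [← Scheme.Hom.comp_apply, Restrict.restrictAct_ι]
    exact hW g ha
  let O : Q.Opens := ⟨q '' (V : Set W'.toScheme),
    (IsQuot.isQuotientMap hq).isOpen_preimage.mp (by rw [hsat]; exact V.2)⟩
  have hO : q ⁻¹ᵁ O = V := Opens.ext hsat
  let e : W.toScheme ≅ (q ⁻¹ᵁ O).toScheme := IsOpenImmersion.isoOfRangeEq W.ι
    ((q ⁻¹ᵁ O).ι ≫ W'.ι) (by
      rw [Scheme.Opens.range_ι, Scheme.Hom.comp_base, TopCat.coe_comp, Set.range_comp,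
        Scheme.Opens.range_ι, hO]
      show (W : Set X) = W'.ι '' (W'.ι ⁻¹' (W : Set X))
      rw [Set.image_preimage_eq_inter_range, Scheme.Opens.range_ι]
      exact (Set.inter_eq_left.mpr hle).symm)
  have he : e.hom ≫ (q ⁻¹ᵁ O).ι = X.homOfLE hle := by
    rw [← cancel_mono W'.ι, Category.assoc, Scheme.homOfLE_ι]
    exact IsOpenImmersion.isoOfRangeEq_hom_fac _ _ _
  refine ⟨O, e.hom ≫ (q ∣_ O) ≫ (Iso.refl O.toScheme).hom,
    Transport.isQuot_of_iso (Restrict.isQuot hq O) e (Iso.refl _) _ fun g => ?_, ?_⟩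
  · rw [← cancel_mono (q ⁻¹ᵁ O).ι, Category.assoc, he, Category.assoc, Restrict.restrictAct_ι,
      reassoc_of% he, ← cancel_mono W'.ι, Category.assoc, Category.assoc, Scheme.homOfLE_ι,
      Restrict.restrictAct_ι, Restrict.restrictAct_ι, Scheme.homOfLE_ι_assoc]
  · rw [Iso.refl_hom, Category.comp_id, Category.assoc, morphismRestrict_ι, reassoc_of% he]

variable (ρ)

/-- The invariant opens which have a quotient. -/
abbrev Good : Type u :=
  {W : X.Opens // ∃ (hW : ∀ g : G, W ≤ (ρ g).hom ⁻¹ᵁ W) (Q : Scheme.{u}) (q : W.toScheme ⟶ Q),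
    SGA1.IsQuot (Restrict.restrictAct ρ W hW) q}

omit [Finite G] in
theorem good_stable (W : Good ρ) : ∀ g : G, W.1 ≤ (ρ g).hom ⁻¹ᵁ W.1 := W.2.choose

/-- The chosen quotient of a good open. -/
noncomputable def quot (W : Good ρ) : Scheme.{u} := W.2.choose_spec.choose

/-- The chosen quotient map of a good open. -/
noncomputable def proj (W : Good ρ) : W.1.toScheme ⟶ quot ρ W := W.2.choose_spec.choose_spec.choose

omit [Finite G] in
theorem isQuot_proj (W : Good ρ) :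
    SGA1.IsQuot (Restrict.restrictAct ρ W.1 (good_stable ρ W)) (proj ρ W) :=
  W.2.choose_spec.choose_spec.choose_spec

theorem homOfLE_proj_inv {W W' : Good ρ} (h : W ≤ W') (g : G) :
    (Restrict.restrictAct ρ W.1 (good_stable ρ W) g).hom ≫ X.homOfLE h ≫ proj ρ W' =
      X.homOfLE h ≫ proj ρ W' := by
  have h1 : (Restrict.restrictAct ρ W.1 (good_stable ρ W) g).hom ≫ X.homOfLE h =
      X.homOfLE h ≫ (Restrict.restrictAct ρ W'.1 (good_stable ρ W') g).hom := by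
    rw [← cancel_mono W'.1.ι, Category.assoc, Category.assoc, Scheme.homOfLE_ι,
      Restrict.restrictAct_ι, Restrict.restrictAct_ι, Scheme.homOfLE_ι_assoc]
  rw [reassoc_of% h1, (isQuot_proj ρ W').inv]

/-- The maps between quotients of good opens. -/
noncomputable def trans {W W' : Good ρ} (h : W ≤ W') : quot ρ W ⟶ quot ρ W' :=
  (IsQuot.existsUnique_desc (isQuot_proj ρ W) (X.homOfLE h ≫ proj ρ W')
    (homOfLE_proj_inv ρ h)).choose

theorem proj_trans {W W' : Good ρ} (h : W ≤ W') :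
    proj ρ W ≫ trans ρ h = X.homOfLE h ≫ proj ρ W' :=
  (IsQuot.existsUnique_desc (isQuot_proj ρ W) (X.homOfLE h ≫ proj ρ W')
    (homOfLE_proj_inv ρ h)).choose_spec.1

theorem trans_isOpenImmersion {W W' : Good ρ} (h : W ≤ W') :
    IsOpenImmersion (trans ρ h) := by
  obtain ⟨O, q₀, hq₀, hq₀'⟩ :=
    exists_factor (good_stable ρ W) (good_stable ρ W') h (isQuot_proj ρ W')
  have hW := isQuot_proj ρ W
  obtain ⟨a, ha, -⟩ := IsQuot.existsUnique_desc hW q₀ hq₀.inv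
  obtain ⟨b, hb, -⟩ := IsQuot.existsUnique_desc hq₀ (proj ρ W) hW.inv
  have hab : a ≫ b = 𝟙 _ := (IsQuot.existsUnique_desc hW (proj ρ W) hW.inv).unique
    (by rw [reassoc_of% ha, hb]) (Category.comp_id _)
  have hba : b ≫ a = 𝟙 _ := (IsQuot.existsUnique_desc hq₀ q₀ hq₀.inv).unique
    (by rw [reassoc_of% hb, ha]) (Category.comp_id _)
  have : IsIso a := ⟨b, hab, hba⟩
  have heq : trans ρ h = a ≫ O.ι :=
    (IsQuot.existsUnique_desc hW (X.homOfLE h ≫ proj ρ W') (homOfLE_proj_inv ρ h)).unique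
      (proj_trans ρ h) (by rw [reassoc_of% ha, hq₀'])
  rw [heq]
  infer_instance

/-- The diagram of quotients. -/
noncomputable def diagram : Good ρ ⥤ Scheme.{u} where
  obj W := quot ρ W
  map f := trans ρ (leOfHom f)
  map_id W := (IsQuot.existsUnique_desc (isQuot_proj ρ W) (X.homOfLE le_rfl ≫ proj ρ W)
    (homOfLE_proj_inv ρ le_rfl)).unique (proj_trans ρ le_rfl) (by simp)
  map_comp {U V W} f g := (IsQuot.existsUnique_desc (isQuot_proj ρ U)
    (X.homOfLE (leOfHom (f ≫ g)) ≫ proj ρ W) (homOfLE_proj_inv ρ _)).unique (proj_trans ρ _) (by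
      rw [reassoc_of% (proj_trans ρ (leOfHom f)), proj_trans, Scheme.homOfLE_homOfLE_assoc])

instance {W W' : Good ρ} (f : W ⟶ W') : IsOpenImmersion ((diagram ρ).map f) :=
  trans_isOpenImmersion ρ (leOfHom f)

instance : ((diagram ρ) ⋙ Scheme.forget).IsLocallyDirected := by
  refine ⟨?_⟩
  intro i j k fi fj xi xj hx
  obtain ⟨a, rfl⟩ := IsQuot.surjective (isQuot_proj ρ i) xi
  obtain ⟨b, rfl⟩ := IsQuot.surjective (isQuot_proj ρ j) xj
  replace hx : trans ρ (leOfHom fi) (proj ρ i a) = trans ρ (leOfHom fj) (proj ρ j b) := hx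
  rw [← Scheme.Hom.comp_apply, ← Scheme.Hom.comp_apply, proj_trans, proj_trans,
    Scheme.Hom.comp_apply, Scheme.Hom.comp_apply] at hx
  obtain ⟨g, hg⟩ := (IsQuot.apply_eq_iff (isQuot_proj ρ k) _ _).mp hx
  have hgab : (ρ g).hom (i.1.ι a) = j.1.ι b := by
    have := congrArg k.1.ι hg
    rwa [← Scheme.Hom.comp_apply _ k.1.ι, Restrict.restrictAct_ι, Scheme.Hom.comp_apply,
      ← Scheme.Hom.comp_apply (X.homOfLE (leOfHom fi)), Scheme.homOfLE_ι,
      ← Scheme.Hom.comp_apply (X.homOfLE (leOfHom fj)), Scheme.homOfLE_ι] at this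
  have haj : i.1.ι a ∈ j.1 := by
    have := good_stable ρ j g⁻¹ (show j.1.ι b ∈ j.1 from b.2)
    rw [← hgab] at this
    change (ρ g⁻¹).hom ((ρ g).hom (i.1.ι a)) ∈ j.1 at this
    rwa [← Scheme.Hom.comp_apply, ← IsQuot.hom_mul_hom, inv_mul_cancel, IsQuot.hom_one] at this
  have hstable : ∀ g : G, i.1 ⊓ j.1 ≤ (ρ g).hom ⁻¹ᵁ (i.1 ⊓ j.1) := fun g y hy =>
    ⟨good_stable ρ i g hy.1, good_stable ρ j g hy.2⟩
  obtain ⟨O, q₀, hq₀, -⟩ :=
    exists_factor hstable (good_stable ρ i) inf_le_left (isQuot_proj ρ i)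
  let l : Good ρ := ⟨i.1 ⊓ j.1, hstable, _, q₀, hq₀⟩
  have hli : l ≤ i := show i.1 ⊓ j.1 ≤ i.1 from inf_le_left
  have hlj : l ≤ j := show i.1 ⊓ j.1 ≤ j.1 from inf_le_right
  let c : l.1.toScheme := ⟨i.1.ι a, a.2, haj⟩
  refine ⟨l, homOfLE hli, homOfLE hlj, proj ρ l c, ?_, ?_⟩
  · show trans ρ hli (proj ρ l c) = _
    rw [← Scheme.Hom.comp_apply, proj_trans, Scheme.Hom.comp_apply]
    congr 1
    apply i.1.ι.isOpenEmbedding.injective
    rw [← Scheme.Hom.comp_apply, Scheme.homOfLE_ι]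
    rfl
  · show trans ρ hlj (proj ρ l c) = _
    rw [← Scheme.Hom.comp_apply, proj_trans, Scheme.Hom.comp_apply]
    refine (IsQuot.apply_eq_iff (isQuot_proj ρ j) _ _).mpr ⟨g, ?_⟩
    apply j.1.ι.isOpenEmbedding.injective
    rw [← Scheme.Hom.comp_apply, Restrict.restrictAct_ι, Scheme.Hom.comp_apply,
      ← Scheme.Hom.comp_apply (X.homOfLE hlj), Scheme.homOfLE_ι]
    exact hgab

theorem exists_isQuot (h : ∀ x : X, ∃ U : X.Opens, IsAffineOpen U ∧ ∀ g : G, (ρ g).hom.base x ∈ U) :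
    ∃ (Y : Scheme.{u}) (p : X ⟶ Y), SGA1.IsQuot ρ p := by
  have hcov : IsOpenCover fun W : Good ρ => W.1 := by
    rw [IsOpenCover, eq_top_iff]
    intro x _
    obtain ⟨W, hW, hWa, hxW⟩ := exists_stable_affine ρ x (h x)
    have : IsAffine W.toScheme := hWa
    obtain ⟨Q, q, hq⟩ := exists_quot_of_isAffine (Restrict.restrictAct ρ W hW)
    exact Opens.mem_iSup.mpr ⟨⟨W, hW, Q, q, hq⟩, hxW⟩
  let f : ∀ W : Good ρ, W.1.toScheme ⟶ colimit (diagram ρ) := fun W =>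
    proj ρ W ≫ colimit.ι (diagram ρ) W
  have hf : ∀ {W W' : Good ρ} (hle : W ≤ W'), X.homOfLE hle ≫ f W' = f W := by
    intro W W' hle
    show X.homOfLE hle ≫ proj ρ W' ≫ colimit.ι (diagram ρ) W' = proj ρ W ≫ _
    exact ((Category.assoc _ _ _).symm.trans
      (congrArg (fun k => k ≫ colimit.ι (diagram ρ) W') (proj_trans ρ hle).symm)).trans
      ((Category.assoc _ _ _).trans
        (congrArg (fun k => proj ρ W ≫ k) (colimit.w (diagram ρ) (homOfLE hle))))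
  let 𝒰 := X.openCoverOfIsOpenCover _ hcov
  have hcompat : ∀ i j : Good ρ,
      pullback.fst (i.1.ι) (j.1.ι) ≫ f i = pullback.snd (i.1.ι) (j.1.ι) ≫ f j := by
    intro i j
    have hstable : ∀ g : G, i.1 ⊓ j.1 ≤ (ρ g).hom ⁻¹ᵁ (i.1 ⊓ j.1) := fun g y hy =>
      ⟨good_stable ρ i g hy.1, good_stable ρ j g hy.2⟩
    obtain ⟨O, q₀, hq₀, -⟩ :=
      exists_factor hstable (good_stable ρ i) inf_le_left (isQuot_proj ρ i)
    let l : Good ρ := ⟨i.1 ⊓ j.1, hstable, _, q₀, hq₀⟩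
    have hli : l ≤ i := show i.1 ⊓ j.1 ≤ i.1 from inf_le_left
    have hlj : l ≤ j := show i.1 ⊓ j.1 ≤ j.1 from inf_le_right
    have hr : Set.range (pullback.fst i.1.ι j.1.ι ≫ i.1.ι) ⊆ Set.range l.1.ι := by
      rw [Scheme.Opens.range_ι]
      rintro _ ⟨z, rfl⟩
      refine ⟨(pullback.fst i.1.ι j.1.ι z).2, ?_⟩
      rw [pullback.condition]
      exact (pullback.snd i.1.ι j.1.ι z).2
    let t := IsOpenImmersion.lift l.1.ι (pullback.fst i.1.ι j.1.ι ≫ i.1.ι) hr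
    have h1 : t ≫ X.homOfLE hli = pullback.fst i.1.ι j.1.ι := by
      rw [← cancel_mono i.1.ι, Category.assoc, Scheme.homOfLE_ι]
      exact IsOpenImmersion.lift_fac _ _ _
    have h2 : t ≫ X.homOfLE hlj = pullback.snd i.1.ι j.1.ι := by
      rw [← cancel_mono j.1.ι, Category.assoc, Scheme.homOfLE_ι, ← pullback.condition]
      exact IsOpenImmersion.lift_fac _ _ _
    rw [← h1, ← h2, Category.assoc, Category.assoc, hf hli, hf hlj]
  let p : X ⟶ colimit (diagram ρ) := 𝒰.glueMorphisms f hcompat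
  have hp : ∀ W : Good ρ, W.1.ι ≫ p = f W := fun W => 𝒰.ι_glueMorphisms f hcompat W
  refine ⟨colimit (diagram ρ), p, ?_⟩
  have hinv : ∀ g : G, (ρ g).hom ≫ p = p := fun g => by
    refine 𝒰.hom_ext _ _ fun (W : Good ρ) => ?_
    show W.1.ι ≫ (ρ g).hom ≫ p = W.1.ι ≫ p
    rw [← reassoc_of% (Restrict.restrictAct_ι ρ W.1 (good_stable ρ W) g), hp W]
    exact (Category.assoc _ _ _).symm.trans
      (congrArg (fun k => k ≫ colimit.ι (diagram ρ) W) ((isQuot_proj ρ W).inv g))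
  let U : Good ρ → (colimit (diagram ρ)).Opens := fun W => (colimit.ι (diagram ρ) W).opensRange
  have hU : ⨆ W, U W = ⊤ := by
    rw [eq_top_iff]
    intro y _
    obtain ⟨W, z, rfl⟩ := Scheme.IsLocallyDirected.ι_jointly_surjective (diagram ρ) y
    exact Opens.mem_iSup.mpr ⟨W, z, rfl⟩
  have hpre : ∀ W : Good ρ, p ⁻¹ᵁ U W = W.1 := by
    intro W
    refine Opens.ext (Set.Subset.antisymm ?_ ?_)
    · intro x hx
      obtain ⟨z, hz⟩ : ∃ z, colimit.ι (diagram ρ) W z = p x := hx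
      obtain ⟨V, hxV⟩ := Opens.mem_iSup.mp (show x ∈ ⨆ V : Good ρ, V.1 from hcov.symm ▸ trivial)
      obtain ⟨a, ha⟩ := IsQuot.surjective (isQuot_proj ρ W) z
      have hpx : colimit.ι (diagram ρ) V (proj ρ V ⟨x, hxV⟩) = p x :=
        (congrArg (fun f : V.1.toScheme ⟶ _ => f ⟨x, hxV⟩) (hp V)).symm
      obtain ⟨l, fl, fV, w, hw1, hw2⟩ :=
        (Scheme.IsLocallyDirected.ι_eq_ι_iff (diagram ρ)).mp (hz.trans hpx.symm)
      obtain ⟨c, rfl⟩ := IsQuot.surjective (isQuot_proj ρ l) w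
      replace hw2 : trans ρ (leOfHom fV) (proj ρ l c) = proj ρ V ⟨x, hxV⟩ := hw2
      rw [← Scheme.Hom.comp_apply, proj_trans, Scheme.Hom.comp_apply] at hw2
      obtain ⟨g, hg⟩ := (IsQuot.apply_eq_iff (isQuot_proj ρ V) _ _).mp hw2
      have h3 := congrArg V.1.ι hg
      rw [← Scheme.Hom.comp_apply _ V.1.ι, Restrict.restrictAct_ι, Scheme.Hom.comp_apply,
        ← Scheme.Hom.comp_apply (X.homOfLE (leOfHom fV)), Scheme.homOfLE_ι] at h3
      have h4 : l.1.ι c ∈ W.1 := leOfHom fl c.2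
      have h5 := good_stable ρ W g h4
      change (ρ g).hom (l.1.ι c) ∈ W.1 at h5
      rw [h3] at h5
      exact h5
    · intro x hx
      exact ⟨proj ρ W ⟨x, hx⟩, (congrArg (fun f : W.1.toScheme ⟶ _ => f ⟨x, hx⟩) (hp W)).symm⟩
  have hres : ∀ W : Good ρ, ∃ ρU : G →* Aut (p ⁻¹ᵁ U W).toScheme,
      (∀ g : G, (ρU g).hom ≫ (p ⁻¹ᵁ U W).ι = (p ⁻¹ᵁ U W).ι ≫ (ρ g).hom) ∧
        SGA1.IsQuot ρU (p ∣_ U W) := by
    intro W
    refine ⟨Restrict.restrictAct ρ _ fun g => SGA1.preimage_le_of_inv ρ p hinv g (U W),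
      Restrict.restrictAct_ι ρ _ _, ?_⟩
    have e1 : (X.isoOfEq (hpre W)).hom ≫ proj ρ W ≫ (colimit.ι (diagram ρ) W).isoOpensRange.hom =
        p ∣_ U W := by
      rw [← cancel_mono (U W).ι, morphismRestrict_ι]
      refine ((Category.assoc _ _ _).trans (congrArg _ ((Category.assoc _ _ _).trans
        (congrArg _ (colimit.ι (diagram ρ) W).isoOpensRange_hom_ι)))).trans ?_
      refine (congrArg _ (hp W).symm).trans ?_
      rw [Scheme.isoOfEq_hom_ι_assoc]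
    rw [← e1]
    refine Transport.isQuot_of_iso (isQuot_proj ρ W) _ _ _ fun g => ?_
    rw [← cancel_mono W.1.ι, Category.assoc, Category.assoc, Restrict.restrictAct_ι,
      Scheme.isoOfEq_hom_ι, Scheme.isoOfEq_hom_ι_assoc, Restrict.restrictAct_ι]
  have : IsAffineHom p :=
    (IsZariskiLocalAtTarget.iff_of_iSup_eq_top
      (P := (@IsAffineHom : MorphismProperty Scheme.{u})) U hU).mpr fun W =>
      (hres W).choose_spec.2.affine
  exact Transport.isQuot_of_cover hinv U hU hres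

end Groth.Agent.Lib.SchQuot.Existence
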