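import Mathlib.RingTheory.Invariant.Basic
import Mathlib.RingTheory.Unramified.Finite
import Mathlib.RingTheory.Finiteness.ModuleFinitePresentation
import Mathlib.RingTheory.RingHom.Etale
import Mathlib.FieldTheory.IsAlgClosed.AlgebraicClosure

/-!
Finite groups acting freely on a commutative ring, following Chase, Harrison and Rosenberg:
the ring is finite projective and etale over the invariants, and homomorphisms into a field which
agree on the invariants differ by a group element.
-/

open TensorProduct

namespace Groth.Agent.Lib.SchQuot.FreeAlgebra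

universe u

variable {A B : Type u} [CommRing A] [CommRing B] [Algebra A B] {G : Type u} [Group G] [Fintype G]
  [MulSemiringAction G B]

variable (B G) in
/-- A family of pairs separating `1` from the other group elements. -/
structure Sep where
  /-- The index type. -/
  ι : Type u
  /-- It is finite. -/
  fintype : Fintype ι
  /-- The left entries. -/
  x : ι → B
  /-- The right entries. -/
  y : ι → B
  sum_one : ∑ i, x i * y i = 1
  sum_ne : ∀ g : G, g ≠ 1 → ∑ i, x i * g • y i = 0

attribute [instance] Sep.fintype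

/-- No group element other than `1` fixes a point with values in a field. -/
def IsFree (B : Type u) [CommRing B] (G : Type u) [Group G] [MulSemiringAction G B] : Prop :=
  ∀ (K : Type u) [Field K] [IsAlgClosed K] (φ : B →+* K) (g : G),
    (∀ b, φ (g • b) = φ b) → g = 1

theorem exists_sep_of_ne (h : IsFree B G) {g : G} (hg : g ≠ 1) :
    ∃ (ι : Type u) (_ : Fintype ι) (x y : ι → B), ∑ i, x i * y i = 1 ∧ ∑ i, x i * g • y i = 0 := by
  have htop : Ideal.span (Set.range fun b : B => b - g • b) = ⊤ := by
    by_contra hne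
    obtain ⟨m, hm, hle⟩ := Ideal.exists_le_maximal _ hne
    let := Ideal.Quotient.field m
    refine hg (h (AlgebraicClosure (B ⧸ m))
      ((algebraMap (B ⧸ m) _).comp (Ideal.Quotient.mk m)) g fun b => ?_)
    refine (congrArg (algebraMap (B ⧸ m) (AlgebraicClosure (B ⧸ m))) ?_).symm
    exact Ideal.Quotient.mk_eq_mk_iff_sub_mem _ _ |>.mpr (hle (Ideal.subset_span ⟨b, rfl⟩))
  have h1 : (1 : B) ∈ Submodule.span B (Set.range fun b : B => b - g • b) :=
    (Ideal.eq_top_iff_one _).mp htop
  obtain ⟨c, hc⟩ := (Finsupp.mem_span_range_iff_exists_finsupp (R := B) (M := B)).mp h1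
  let s := c.support
  refine ⟨Option s, inferInstance,
    fun o : Option s => o.elim (-∑ b : s, c (b : B) * g • (b : B) : B) (fun b => c (b : B)),
    fun o : Option s => o.elim (1 : B) (fun b => (b : B)), ?_, ?_⟩
  · rw [Fintype.sum_option]
    simp only [Option.elim, mul_one]
    rw [← Finset.sum_neg_distrib, ← Finset.sum_add_distrib, ← hc, Finsupp.sum,
      ← Finset.sum_coe_sort c.support (fun a => c a • (a - g • a))]
    refine Finset.sum_congr rfl fun b _ => ?_
    rw [smul_eq_mul, mul_sub]
    abel
  · rw [Fintype.sum_option]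
    simp only [Option.elim, smul_one, mul_one]
    rw [neg_add_eq_zero]

theorem exists_sep (h : IsFree B G) : Nonempty (Sep B G) := by
  classical
  suffices ∀ s : Finset G, ∃ (ι : Type u) (_ : Fintype ι) (x y : ι → B),
      ∑ i, x i * y i = 1 ∧ ∀ g ∈ s, g ≠ 1 → ∑ i, x i * g • y i = 0 by
    obtain ⟨ι, i, x, y, h1, h2⟩ := this Finset.univ
    exact ⟨⟨ι, i, x, y, h1, fun g => h2 g (Finset.mem_univ g)⟩⟩
  intro s
  induction s using Finset.induction_on with
  | empty => exact ⟨PUnit, inferInstance, fun _ => 1, fun _ => 1, by simp, by simp⟩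
  | insert a s _ ih =>
    obtain ⟨ι, _, x, y, h1, h2⟩ := ih
    by_cases ha : a = 1
    · refine ⟨ι, inferInstance, x, y, h1, fun g hg hne => ?_⟩
      rcases Finset.mem_insert.mp hg with rfl | hg
      exacts [absurd ha hne, h2 g hg hne]
    obtain ⟨κ, _, x', y', h1', h2'⟩ := exists_sep_of_ne h ha
    refine ⟨ι × κ, inferInstance, fun p => x p.1 * x' p.2, fun p => y p.1 * y' p.2, ?_, fun g hg hne => ?_⟩
    · rw [Fintype.sum_prod_type, show (1 : B) = (∑ i, x i * y i) * ∑ j, x' j * y' j by
        rw [h1, h1', one_mul], Finset.sum_mul_sum]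
      exact Finset.sum_congr rfl fun i _ => Finset.sum_congr rfl fun j _ => by ring
    · have e : ∑ p : ι × κ, x p.1 * x' p.2 * g • (y p.1 * y' p.2) =
          (∑ i, x i * g • y i) * ∑ j, x' j * g • y' j := by
        rw [Fintype.sum_prod_type, Finset.sum_mul_sum]
        exact Finset.sum_congr rfl fun i _ => Finset.sum_congr rfl fun j _ => by
          rw [smul_mul']; ring
      rw [e]
      rcases Finset.mem_insert.mp hg with rfl | hg
      · rw [h2', mul_zero]
      · rw [h2 g hg hne, zero_mul]

variable (S : Sep B G) [SMulCommClass G A B] [Algebra.IsInvariant A B G]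

theorem exists_trace (b : B) : ∃ a : A, algebraMap A B a = ∑ g : G, g • b :=
  Algebra.IsInvariant.isInvariant (A := A) (G := G) _ fun h => by
    rw [Finset.smul_sum]
    simp only [smul_smul]
    exact Fintype.sum_equiv (Equiv.mulLeft h) _ _ fun g => rfl

/-- The trace. -/
noncomputable def tr (hinj : Function.Injective (algebraMap A B)) : B →ₗ[A] A where
  toFun b := (exists_trace (A := A) (G := G) b).choose
  map_add' a b := hinj (by
    rw [map_add, (exists_trace _).choose_spec, (exists_trace _).choose_spec,
      (exists_trace _).choose_spec, ← Finset.sum_add_distrib]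
    simp only [smul_add])
  map_smul' r b := hinj (by
    rw [RingHom.id_apply, smul_eq_mul, map_mul, (exists_trace _).choose_spec,
      (exists_trace _).choose_spec, Finset.mul_sum]
    simp only [smul_comm (M := G) (N := A), ← Algebra.smul_def])

variable (hinj : Function.Injective (algebraMap A B))

theorem algebraMap_tr (b : B) :
    algebraMap A B (tr (G := G) hinj b) = ∑ g : G, g • b :=
  (exists_trace b).choose_spec

include S in
open Classical in
theorem sum_smul (g h : G) :
    ∑ i, g • S.x i * h • S.y i = if g = h then 1 else 0 := by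
  classical
  have e : ∑ i, g • S.x i * h • S.y i = g • ∑ i, S.x i * (g⁻¹ * h) • S.y i := by
    rw [Finset.smul_sum]
    exact Finset.sum_congr rfl fun i _ => by rw [smul_mul', smul_smul, mul_inv_cancel_left]
  rw [e]
  split_ifs with hgh
  · subst hgh
    simp [S.sum_one]
  · rw [S.sum_ne _ (fun hc => hgh (inv_mul_eq_one.mp hc)), smul_zero]

include S in
theorem eq_sum_tr_mul (b : B) : b = ∑ i, tr (G := G) hinj (S.y i * b) • S.x i := by
  classical
  symm
  simp only [Algebra.smul_def, algebraMap_tr hinj, Finset.sum_mul, smul_mul']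
  rw [Finset.sum_comm]
  rw [Finset.sum_eq_single (1 : G)]
  · simp only [one_smul]
    rw [show ∑ i, S.y i * b * S.x i = b * ∑ i, S.x i * S.y i by
      rw [Finset.mul_sum]; exact Finset.sum_congr rfl fun i _ => by ring]
    rw [S.sum_one, mul_one]
  · intro g _ hg
    rw [show ∑ i, g • S.y i * g • b * S.x i = g • b * ∑ i, S.x i * g • S.y i by
      rw [Finset.mul_sum]; exact Finset.sum_congr rfl fun i _ => by ring]
    rw [S.sum_ne g hg, mul_zero]
  · simp

include S in
theorem eq_sum_tr_mul' (b : B) : b = ∑ i, tr (G := G) hinj (S.x i * b) • S.y i := by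
  classical
  symm
  simp only [Algebra.smul_def, algebraMap_tr hinj, Finset.sum_mul, smul_mul']
  rw [Finset.sum_comm]
  rw [Finset.sum_eq_single (1 : G)]
  · simp only [one_smul]
    rw [show ∑ i, S.x i * b * S.y i = b * ∑ i, S.x i * S.y i by
      rw [Finset.mul_sum]; exact Finset.sum_congr rfl fun i _ => by ring]
    rw [S.sum_one, mul_one]
  · intro g _ hg
    rw [show ∑ i, g • S.x i * g • b * S.y i = g • b * ∑ i, g • S.x i * (1 : G) • S.y i by
      rw [Finset.mul_sum]; exact Finset.sum_congr rfl fun i _ => by rw [one_smul]; ring]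
    rw [sum_smul S, if_neg hg, mul_zero]
  · simp

include S hinj in
theorem finite_projective : Module.Finite A B ∧ Module.Projective A B := by
  classical
  let l : (S.ι → A) →ₗ[A] B := Fintype.linearCombination A S.x
  let r : B →ₗ[A] (S.ι → A) :=
    LinearMap.pi fun i => (tr (G := G) hinj).comp (LinearMap.mulLeft A (S.y i))
  have h : l.comp r = LinearMap.id := LinearMap.ext fun b => by
    simp only [l, r, LinearMap.comp_apply, Fintype.linearCombination_apply, LinearMap.pi_apply,
      LinearMap.mulLeft_apply, LinearMap.id_apply]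
    exact (eq_sum_tr_mul S hinj b).symm
  exact ⟨Module.Finite.of_surjective l fun b => ⟨r b, DFunLike.congr_fun h b⟩,
    Module.Projective.of_split r l h⟩

/-- The idempotent of the graph of `g`. -/
noncomputable def graphIdem (g : G) : B ⊗[A] B := ∑ i, (g • S.x i) ⊗ₜ[A] S.y i

include hinj in
theorem one_tmul_mul_graphIdem (g : G) (v : B) :
    (1 : B) ⊗ₜ[A] v * graphIdem S g = (g • v) ⊗ₜ[A] (1 : B) * graphIdem S g := by
  classical
  simp only [graphIdem, Finset.mul_sum, Algebra.TensorProduct.tmul_mul_tmul, one_mul]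
  calc ∑ i, (g • S.x i) ⊗ₜ[A] (v * S.y i)
      = ∑ i, ∑ j, (g • S.x i) ⊗ₜ[A] (tr (G := G) hinj (S.x j * (v * S.y i)) • S.y j) := by
        refine Finset.sum_congr rfl fun i _ => ?_
        rw [← tmul_sum, ← eq_sum_tr_mul' S hinj (v * S.y i)]
    _ = ∑ j, (g • ∑ i, tr (G := G) hinj (S.y i * (S.x j * v)) • S.x i) ⊗ₜ[A] S.y j := by
        rw [Finset.sum_comm]
        refine Finset.sum_congr rfl fun j _ => ?_
        rw [Finset.smul_sum, sum_tmul]
        refine Finset.sum_congr rfl fun i _ => ?_
        rw [tmul_smul, smul_tmul', ← smul_comm g]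
        rw [show S.x j * (v * S.y i) = S.y i * (S.x j * v) by ring]
    _ = ∑ j, (g • v * g • S.x j) ⊗ₜ[A] S.y j := by
        refine Finset.sum_congr rfl fun j _ => ?_
        rw [← eq_sum_tr_mul S hinj, mul_comm, smul_mul']

include hinj in
theorem sum_graphIdem : ∑ g : G, graphIdem (A := A) S g = 1 := by
  simp only [graphIdem]
  rw [Finset.sum_comm]
  simp only [← sum_tmul, ← algebraMap_tr (A := A) hinj]
  calc ∑ i, algebraMap A B (tr (G := G) hinj (S.x i)) ⊗ₜ[A] S.y i
      = ∑ i, (1 : B) ⊗ₜ[A] (tr (G := G) hinj (S.x i * 1) • S.y i) := by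
        refine Finset.sum_congr rfl fun i _ => ?_
        rw [Algebra.algebraMap_eq_smul_one, smul_tmul, mul_one]
    _ = 1 := by rw [← tmul_sum, ← eq_sum_tr_mul' S hinj 1]; rfl

include S hinj in
theorem formallyUnramified : Algebra.FormallyUnramified A B := by
  have := (finite_projective S hinj).1
  refine Algebra.FormallyUnramified.iff_exists_tensorProduct.mpr ⟨graphIdem S 1, fun s => ?_, ?_⟩
  · rw [sub_mul, one_tmul_mul_graphIdem S hinj, one_smul, sub_self]
  · simp only [graphIdem, map_sum, Algebra.TensorProduct.lmul'_apply_tmul, one_smul]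
    exact S.sum_one

include S hinj in
theorem etale : (algebraMap A B).Etale := by
  obtain ⟨_, _⟩ := finite_projective S hinj
  have := formallyUnramified S hinj
  have : Module.FinitePresentation A B := Module.finitePresentation_of_projective A B
  rw [RingHom.Etale.iff_flat_and_formallyUnramified]
  exact ⟨RingHom.flat_algebraMap_iff.mpr inferInstance,
    RingHom.formallyUnramified_algebraMap.mpr inferInstance,
    RingHom.finitePresentation_algebraMap.mpr inferInstance⟩

include hinj in
theorem exists_smul_eq (h : IsFree B G) {K : Type u} [Field K] (φ ψ : B →+* K)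
    (he : φ.comp (algebraMap A B) = ψ.comp (algebraMap A B)) : ∃ g : G, ∀ b, φ (g • b) = ψ b := by
  obtain ⟨S⟩ := exists_sep h
  let := (φ.comp (algebraMap A B)).toAlgebra
  let φ' : B →ₐ[A] K := { __ := φ, commutes' := fun _ => rfl }
  let ψ' : B →ₐ[A] K := { __ := ψ, commutes' := fun a => (DFunLike.congr_fun he a).symm }
  let π := Algebra.TensorProduct.productMap φ' ψ'
  obtain ⟨g, -, hg⟩ : ∃ g ∈ (Finset.univ : Finset G), π (graphIdem S g) ≠ 0 := by
    refine Finset.exists_ne_zero_of_sum_ne_zero ?_
    rw [← map_sum, sum_graphIdem S hinj, map_one]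
    exact one_ne_zero
  refine ⟨g, fun b => mul_right_cancel₀ hg ?_⟩
  have e := congrArg π (one_tmul_mul_graphIdem S hinj g b)
  rw [map_mul, map_mul, Algebra.TensorProduct.productMap_apply_tmul,
    Algebra.TensorProduct.productMap_apply_tmul, map_one, map_one, mul_one, one_mul] at e
  exact e.symm

end Groth.Agent.Lib.SchQuot.FreeAlgebra
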