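import Groth.Agent.Lib.SchQuot.FreeAlgebra
import Groth.Agent.Lib.SchQuot.IsQuot
import Groth.Agent.Lib.QfhGalois.Basic
import Mathlib.AlgebraicGeometry.Morphisms.Etale
import Mathlib.AlgebraicGeometry.Limits
import Mathlib.AlgebraicGeometry.Morphisms.FlatMono

/-!
Quotients of schemes by freely acting finite groups are etale torsors.
-/

universe u

open CategoryTheory CategoryTheory.Limits AlgebraicGeometry

namespace Groth.Agent.Lib.SchQuot.FreeScheme

/-- The group acts freely on geometric points. -/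
def IsGeomFree {X : Scheme.{u}} {G : Type u} [Group G] (ρ : G →* Aut X) : Prop :=
  ∀ (K : Type u) [Field K] [IsAlgClosed K] (ξ : Spec (CommRingCat.of K) ⟶ X) (g : G),
    ξ ≫ (ρ g).hom = ξ → g = 1

variable {X Y : Scheme.{u}} {G : Type u} [Group G] {ρ : G →* Aut X} {p : X ⟶ Y}

theorem isFree (hp : SGA1.IsQuot ρ p) (hfree : IsGeomFree ρ) (V : Y.Opens) (hV : IsAffineOpen V) :
    letI := IsQuot.action hp V
    FreeAlgebra.IsFree Γ(X, p ⁻¹ᵁ V) G := by
  let := IsQuot.action hp V
  intro K _ _ φ g h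
  have := hp.affine
  have hV' : IsAffineOpen (p ⁻¹ᵁ V) := hV.preimage p
  refine inv_eq_one.mp (hfree K (Spec.map (CommRingCat.ofHom φ) ≫ hV'.fromSpec) g⁻¹ ?_)
  rw [Category.assoc, ← IsAffineOpen.SpecMap_appLE_fromSpec (ρ g⁻¹).hom hV' hV'
    (SGA1.preimage_le_of_inv ρ p hp.inv g⁻¹ V), ← Spec.map_comp_assoc]
  congr 2
  exact CommRingCat.hom_ext (RingHom.ext h)

theorem etale [Finite G] (hp : SGA1.IsQuot ρ p) (hfree : IsGeomFree ρ) : Etale p := by
  have := Fintype.ofFinite G
  rw [IsZariskiLocalAtTarget.iff_of_iSup_eq_top (P := @Etale) _ (iSup_affineOpens_eq_top Y)]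
  intro V
  have := hp.affine
  have hA : IsAffine (V.1 : Scheme.{u}) := V.2
  have hB : IsAffine ((p ⁻¹ᵁ V.1 : X.Opens) : Scheme.{u}) := V.2.preimage p
  rw [HasRingHomProperty.iff_of_isAffine (P := @Etale), morphismRestrict_appTop]
  have key : ∀ W : Y.Opens, IsAffineOpen W → (p.app W).hom.Etale := fun W hW => by
    let := IsQuot.action hp W
    let := (p.app W).hom.toAlgebra
    have := IsQuot.smulCommClass hp W
    have := IsQuot.isInvariant hp W
    obtain ⟨S⟩ := FreeAlgebra.exists_sep (isFree hp hfree W hW)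
    exact FreeAlgebra.etale S (hp.injective W)
  exact (RingHom.Etale.respectsIso.cancel_right_isIso (p.app (V.1.ι ''ᵁ ⊤)) _).mpr
    (key _ (by rw [Scheme.Opens.ι_image_top]; exact V.2))

theorem exists_translate_hom [Finite G] (hp : SGA1.IsQuot ρ p) (hfree : IsGeomFree ρ) {K : Type u}
    [Field K] (ξ₁ ξ₂ : Spec (CommRingCat.of K) ⟶ X) (h : ξ₁ ≫ p = ξ₂ ≫ p) :
    ∃ g : G, ξ₁ ≫ (ρ g).hom = ξ₂ := by
  have := Fintype.ofFinite G
  have := hp.affine
  obtain ⟨W, hW, hyW, -⟩ := exists_isAffineOpen_mem_and_subset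
    (x := (ξ₁ ≫ p) (IsLocalRing.closedPoint K)) (U := ⊤) trivial
  have hW' : IsAffineOpen (p ⁻¹ᵁ W) := hW.preimage p
  have hlift : ∀ ξ : Spec (CommRingCat.of K) ⟶ X,
      (ξ ≫ p) (IsLocalRing.closedPoint K) ∈ W →
      ∃ φ : Γ(X, p ⁻¹ᵁ W) ⟶ CommRingCat.of K, Spec.map φ ≫ hW'.fromSpec = ξ := fun ξ hξ => by
    refine ⟨Spec.preimage (IsOpenImmersion.lift hW'.fromSpec ξ ?_), ?_⟩
    · rintro _ ⟨z, rfl⟩
      rw [IsAffineOpen.range_fromSpec, show z = IsLocalRing.closedPoint K from
        Subsingleton.elim (α := PrimeSpectrum K) _ _]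
      exact hξ
    · rw [Spec.map_preimage, IsOpenImmersion.lift_fac]
  obtain ⟨φ₁, rfl⟩ := hlift ξ₁ hyW
  obtain ⟨φ₂, rfl⟩ := hlift ξ₂ (h ▸ hyW)
  let := IsQuot.action hp W
  let := (p.app W).hom.toAlgebra
  have := IsQuot.smulCommClass hp W
  have := IsQuot.isInvariant hp W
  have hA : p.app W ≫ φ₁ = p.app W ≫ φ₂ := by
    rw [Category.assoc, Category.assoc, ← IsAffineOpen.SpecMap_appLE_fromSpec p hW hW' le_rfl,
      ← Spec.map_comp_assoc, ← Spec.map_comp_assoc, ← Scheme.Hom.app_eq_appLE] at h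
    exact Spec.map_inj.mp ((cancel_mono hW.fromSpec).mp h)
  obtain ⟨g, hg⟩ := FreeAlgebra.exists_smul_eq (hp.injective W) (isFree hp hfree W hW) φ₁.hom φ₂.hom
    (congrArg CommRingCat.Hom.hom hA)
  refine ⟨g⁻¹, ?_⟩
  rw [Category.assoc, ← IsAffineOpen.SpecMap_appLE_fromSpec (ρ g⁻¹).hom hW' hW'
    (SGA1.preimage_le_of_inv ρ p hp.inv g⁻¹ W), ← Spec.map_comp_assoc]
  congr 2
  exact CommRingCat.hom_ext (RingHom.ext hg)

/-- An etale morphism with a family of sections separating and covering geometric points is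
trivial. -/
theorem isIso_sigmaDesc {T W : Scheme.{u}} (π : W ⟶ T) [Etale π] {ι : Type u} (a : ι → (T ⟶ W))
    (ha : ∀ i, a i ≫ π = 𝟙 T)
    (hsep : ∀ (K : Type u) [Field K] [IsAlgClosed K] (ω : Spec (CommRingCat.of K) ⟶ T) (i j : ι),
      ω ≫ a i = ω ≫ a j → i = j)
    (hcov : ∀ (K : Type u) [Field K] [IsAlgClosed K] (ω : Spec (CommRingCat.of K) ⟶ W),
      ∃ i, ω ≫ π ≫ a i = ω) :
    IsIso (Sigma.desc a) := by
  have hopen : ∀ i, IsOpenImmersion (a i) := fun i => by
    have : Etale (a i ≫ π) := (ha i).symm ▸ inferInstance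
    have : Etale (a i) := Etale.of_comp (a i) π
    have : IsSplitMono (a i) := IsSplitMono.mk' ⟨π, ha i⟩
    exact IsOpenImmersion.of_flat_of_mono (a i)
  have : IsOpenImmersion (Sigma.desc a) := by
    refine isOpenImmersion_sigmaDesc _ _ fun i j hij => Set.disjoint_iff_forall_ne.mpr ?_
    rintro _ ⟨y, rfl⟩ _ ⟨y', rfl⟩ he
    obtain ⟨w, -, -⟩ := Scheme.Pullback.exists_preimage_pullback y y' he
    obtain ⟨K, _, _, ω, -⟩ := QfhGalois.exists_geometric_point _ w
    have h := congrArg (ω ≫ ·) (pullback.condition (f := a i) (g := a j))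
    have h' := congrArg (· ≫ π) h
    simp only [Category.assoc, ha, Category.comp_id] at h'
    simp only [← Category.assoc] at h
    rw [← h'] at h
    exact hij (hsep K _ i j h)
  have : Surjective (Sigma.desc a) := ⟨fun z => by
    obtain ⟨K, _, _, ω, hω⟩ := QfhGalois.exists_geometric_point _ z
    obtain ⟨i, hi⟩ := hcov K ω
    refine ⟨Sigma.ι (fun _ : ι => T) i ((ω ≫ π) (IsLocalRing.closedPoint K)), ?_⟩
    rw [← Scheme.Hom.comp_apply, Sigma.ι_desc, ← Scheme.Hom.comp_apply, Category.assoc, hi]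
    exact hω⟩
  exact (isIso_iff_isOpenImmersion_and_surjective _).mpr ⟨inferInstance, inferInstance⟩

theorem hom_inv_mul (g h : G) : (ρ h).hom ≫ (ρ g⁻¹).hom = (ρ (g⁻¹ * h)).hom :=
  (IsQuot.hom_mul_hom ρ g⁻¹ h).symm

theorem eq_of_fixed (hfree : IsGeomFree ρ) {K : Type u} [Field K] [IsAlgClosed K]
    (ω : Spec (CommRingCat.of K) ⟶ X) {g h : G} (e : ω ≫ (ρ g).hom = ω ≫ (ρ h).hom) : g = h := by
  refine inv_mul_eq_one.mp (hfree K ω _ ?_)
  rw [← hom_inv_mul, ← Category.assoc, ← e, Category.assoc, hom_inv_mul, inv_mul_cancel,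
    IsQuot.hom_one, Category.comp_id]

/-- Two morphisms into an unramified separated scheme which agree at one geometric point of a
connected scheme are equal. -/
theorem hom_ext_of_point {V W T : Scheme.{u}} [ConnectedSpace V] (π : W ⟶ T) [FormallyUnramified π]
    [LocallyOfFiniteType π] [IsSeparated π] (a b : V ⟶ W) (hab : a ≫ π = b ≫ π) {K : Type u}
    [Field K] (ω : Spec (CommRingCat.of K) ⟶ V) (hω : ω ≫ a = ω ≫ b) : a = b := by
  let Δ : V ⟶ pullback π π := pullback.lift a b hab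
  let e := pullback.fst Δ (pullback.diagonal π)
  have : IsOpenImmersion e := MorphismProperty.pullback_fst _ _ inferInstance
  have : IsClosedImmersion e := MorphismProperty.pullback_fst _ _ inferInstance
  have hne : (Set.range e).Nonempty := by
    let l : Spec (CommRingCat.of K) ⟶ pullback Δ (pullback.diagonal π) :=
      pullback.lift ω (ω ≫ a) (by
        refine pullback.hom_ext ?_ ?_
        · simp only [Δ, Category.assoc, pullback.lift_fst, pullback.diagonal_fst, Category.comp_id]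
        · simp only [Δ, Category.assoc, pullback.lift_snd, pullback.diagonal_snd, Category.comp_id, hω])
    exact ⟨_, l (IsLocalRing.closedPoint K), rfl⟩
  have : Surjective e := ⟨Set.range_eq_univ.mp
    (IsClopen.eq_univ ⟨e.isClosedEmbedding.isClosed_range, e.isOpenEmbedding.isOpen_range⟩ hne)⟩
  have : IsIso e := (isIso_iff_isOpenImmersion_and_surjective _).mpr ⟨inferInstance, inferInstance⟩
  have h := pullback.condition (f := Δ) (g := pullback.diagonal π)
  have h1 := congrArg (· ≫ pullback.fst π π) h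
  have h2 := congrArg (· ≫ pullback.snd π π) h
  simp only [Δ, Category.assoc, pullback.lift_fst, pullback.diagonal_fst, Category.comp_id,
    pullback.lift_snd, pullback.diagonal_snd] at h1 h2
  exact (cancel_epi e).mp (h1.trans h2.symm)

end Groth.Agent.Lib.SchQuot.FreeScheme
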