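import Groth.Agent.Lib.SchQuot.IsQuot
import Mathlib.RingTheory.Invariant.Galois
import Mathlib.AlgebraicGeometry.ResidueField

/-!
Residue fields along a quotient by a finite group: normality and surjectivity of the decomposition group.
-/

universe u

open CategoryTheory AlgebraicGeometry TopologicalSpace Opposite
open scoped Pointwise

namespace Groth.Agent.Lib.SchQuot.Residue

theorem ker_evaluation {X : Scheme.{u}} {V : X.Opens} (hV : IsAffineOpen V) {x : X} (hx : x ∈ V)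
    (a : Γ(X, V)) : X.evaluation V x hx a = 0 ↔ a ∈ (hV.primeIdealOf ⟨x, hx⟩).asIdeal := by
  have h2 : (hV.primeIdealOf ⟨x, hx⟩) ∈ PrimeSpectrum.basicOpen a ↔ x ∈ X.basicOpen a := by
    rw [← hV.fromSpec_preimage_basicOpen]
    show hV.fromSpec (hV.primeIdealOf ⟨x, hx⟩) ∈ X.basicOpen a ↔ _
    rw [hV.fromSpec_primeIdealOf]
  rw [← not_iff_not, ← ne_eq, Scheme.evaluation_ne_zero_iff_mem_basicOpen, ← h2]
  rfl

theorem exists_evaluation_div {X : Scheme.{u}} {V : X.Opens} (hV : IsAffineOpen V) {x : X}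
    (hx : x ∈ V) (z : X.residueField x) :
    ∃ a s, z = X.evaluation V x hx a / X.evaluation V x hx s := by
  obtain ⟨w, rfl⟩ := IsLocalRing.residue_surjective (R := X.presheaf.stalk x) z
  let := TopCat.Presheaf.algebra_section_stalk X.presheaf (⟨x, hx⟩ : V)
  have := hV.isLocalization_stalk ⟨x, hx⟩
  obtain ⟨⟨a, s⟩, hw⟩ := IsLocalization.surj (hV.primeIdealOf ⟨x, hx⟩).asIdeal.primeCompl w
  have hs : X.evaluation V x hx s.1 ≠ 0 := fun h => s.2 ((ker_evaluation hV hx _).mp h)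
  refine ⟨a, s.1, (eq_div_iff hs).mpr ?_⟩
  have := congrArg (X.residue x).hom hw
  rw [map_mul] at this
  exact this

theorem evaluation_map {X : Scheme.{u}} {V W : X.Opens} (h : W ≤ V) {x : X} (hx : x ∈ W)
    (a : Γ(X, V)) :
    X.evaluation W x hx (X.presheaf.map (homOfLE h).op a) = X.evaluation V x (h hx) a :=
  congrArg (X.residue x) (TopCat.Presheaf.germ_res_apply X.presheaf (homOfLE h) x hx a)

theorem residueFieldMap_evaluation {X Y : Scheme.{u}} (f : X ⟶ Y) {U : Y.Opens} {V : X.Opens}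
    (e : V ≤ f ⁻¹ᵁ U) {x : X} (hx : x ∈ V) (a : Γ(Y, U)) :
    f.residueFieldMap x (Y.evaluation U (f x) (e hx) a) =
      X.evaluation V x hx (f.appLE U V e a) := by
  refine (Scheme.evaluation_naturality_apply f x (V := U) (e hx) a).trans ?_
  rw [Scheme.Hom.appLE, CommRingCat.comp_apply, evaluation_map]

theorem residueFieldCongr_evaluation {X : Scheme.{u}} {V : X.Opens} {x y : X} (h : x = y)
    (hx : x ∈ V) (a : Γ(X, V)) :
    (X.residueFieldCongr h).hom (X.evaluation V x hx a) = X.evaluation V y (h ▸ hx) a := by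
  subst h; rfl

theorem normal_and_exists {X Y : Scheme.{u}} {G : Type u} [Group G] [Finite G] {ρ : G →* Aut X}
    {p : X ⟶ Y} (hp : SGA1.IsQuot ρ p) (x : X) :
    (letI := (p.residueFieldMap x).hom.toAlgebra
     Normal (Y.residueField (p.base x)) (X.residueField x)) ∧
    ∀ τ : X.residueField x ≅ X.residueField x,
      p.residueFieldMap x ≫ τ.hom = p.residueFieldMap x →
        ∃ (g : G) (e : (ρ g).hom.base x = x),
          τ.hom = (X.residueFieldCongr e).inv ≫ (ρ g).hom.residueFieldMap x := by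
  obtain ⟨_, ⟨U, hU, rfl⟩, hy, -⟩ :=
    Y.isBasis_affineOpens.exists_subset_of_mem_open (Set.mem_univ (p x)) isOpen_univ
  have := hp.affine
  have hV : IsAffineOpen (p ⁻¹ᵁ U) := hU.preimage p
  have hxV : x ∈ p ⁻¹ᵁ U := hy
  let := IsQuot.action hp U
  let algAB := (p.app U).hom.toAlgebra
  have := IsQuot.smulCommClass hp U
  have := IsQuot.isInvariant hp U
  let ev := (X.evaluation (p ⁻¹ᵁ U) x hxV).hom
  let evY := (Y.evaluation U (p x) hy).hom
  let := (p.residueFieldMap x).hom.toAlgebra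
  set P : Ideal Γ(Y, U) := (IsAffineOpen.primeIdealOf hU ⟨p x, hy⟩).asIdeal
  set Q : Ideal Γ(X, p ⁻¹ᵁ U) := (hV.primeIdealOf ⟨x, hxV⟩).asIdeal
  have hcomm : ∀ b, (p.residueFieldMap x).hom (evY b) = ev (p.app U b) := fun b =>
    Scheme.evaluation_naturality_apply p x hy b
  have hover : Q.LiesOver P := by
    have h1 := hU.comap_primeIdealOf_appLE (f := p) U (p ⁻¹ᵁ U) hV le_rfl hxV
    rw [← Scheme.Hom.app_eq_appLE] at h1
    exact ⟨(congrArg PrimeSpectrum.asIdeal h1).symm⟩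
  let algP : Algebra (Γ(Y, U) ⧸ P) (Y.residueField (p x)) :=
    (Ideal.Quotient.lift P evY fun b hb => (ker_evaluation hU hy b).mpr hb).toAlgebra
  let algQ : Algebra (Γ(X, p ⁻¹ᵁ U) ⧸ Q) (X.residueField x) :=
    (Ideal.Quotient.lift Q ev fun b hb => (ker_evaluation hV hxV b).mpr hb).toAlgebra
  let algPL : Algebra (Γ(Y, U) ⧸ P) (X.residueField x) :=
    ((p.residueFieldMap x).hom.comp (algebraMap (Γ(Y, U) ⧸ P) (Y.residueField (p x)))).toAlgebra
  have : IsScalarTower (Γ(Y, U) ⧸ P) (Y.residueField (p x)) (X.residueField x) :=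
    .of_algebraMap_eq fun _ => rfl
  have : IsScalarTower (Γ(Y, U) ⧸ P) (Γ(X, p ⁻¹ᵁ U) ⧸ Q) (X.residueField x) := by
    refine .of_algebraMap_eq fun b => ?_
    obtain ⟨b, rfl⟩ := Ideal.Quotient.mk_surjective b
    exact hcomm b
  have : IsFractionRing (Γ(Y, U) ⧸ P) (Y.residueField (p x)) := by
    have : FaithfulSMul (Γ(Y, U) ⧸ P) (Y.residueField (p x)) :=
      (faithfulSMul_iff_algebraMap_injective _ _).mpr ((injective_iff_map_eq_zero _).mpr fun b => by
        obtain ⟨b, rfl⟩ := Ideal.Quotient.mk_surjective b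
        exact fun h => Ideal.Quotient.eq_zero_iff_mem.mpr ((ker_evaluation hU hy b).mp h))
    refine IsFractionRing.of_field _ _ fun z => ?_
    obtain ⟨a, s, rfl⟩ := exists_evaluation_div hU hy z
    exact ⟨Ideal.Quotient.mk P a, Ideal.Quotient.mk P s, rfl⟩
  have : IsFractionRing (Γ(X, p ⁻¹ᵁ U) ⧸ Q) (X.residueField x) := by
    have : FaithfulSMul (Γ(X, p ⁻¹ᵁ U) ⧸ Q) (X.residueField x) :=
      (faithfulSMul_iff_algebraMap_injective _ _).mpr ((injective_iff_map_eq_zero _).mpr fun b => by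
        obtain ⟨b, rfl⟩ := Ideal.Quotient.mk_surjective b
        exact fun h => Ideal.Quotient.eq_zero_iff_mem.mpr ((ker_evaluation hV hxV b).mp h))
    refine IsFractionRing.of_field _ _ fun z => ?_
    obtain ⟨a, s, rfl⟩ := exists_evaluation_div hV hxV z
    exact ⟨Ideal.Quotient.mk Q a, Ideal.Quotient.mk Q s, rfl⟩
  refine ⟨Ideal.IsFractionRing.normal G P Q _ _, fun τ hτ => ?_⟩
  obtain ⟨⟨k, hkQ⟩, hk⟩ := IsFractionRing.stabilizerHom_surjective G P Q (Y.residueField (p x))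
    (X.residueField x) (AlgEquiv.ofRingEquiv (f := τ.commRingCatIsoToRingEquiv)
      fun z => congr($hτ z))
  have hmem : ∀ a, IsQuot.pull hp.inv k⁻¹ U a ∈ Q ↔ a ∈ Q := by
    intro a
    show k • a ∈ Q ↔ a ∈ Q
    conv_lhs => rw [← show k • Q = Q from hkQ]
    exact Ideal.smul_mem_pointwise_smul_iff
  have hxk : (ρ k⁻¹).hom x ∈ p ⁻¹ᵁ U := show p _ ∈ U by rwa [IsQuot.apply_hom hp k⁻¹ x]
  have hfix : hV.primeIdealOf ⟨(ρ k⁻¹).hom x, hxk⟩ = hV.primeIdealOf ⟨x, hxV⟩ :=
    (hV.comap_primeIdealOf_appLE (f := (ρ k⁻¹).hom) _ _ hV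
      (SGA1.preimage_le_of_inv ρ p hp.inv k⁻¹ U) hxV).symm.trans
        (PrimeSpectrum.ext (Ideal.ext hmem))
  have e : (ρ k⁻¹).hom x = x := by
    have := congrArg hV.fromSpec hfix
    rwa [IsAffineOpen.fromSpec_primeIdealOf, IsAffineOpen.fromSpec_primeIdealOf] at this
  refine ⟨k⁻¹, e, CommRingCat.hom_ext (RingHom.ext fun z => ?_)⟩
  obtain ⟨a, s, rfl⟩ := exists_evaluation_div hV hxV z
  have key : ∀ a, τ.hom (ev a) =
      ((X.residueFieldCongr e).inv ≫ (ρ k⁻¹).hom.residueFieldMap x) (ev a) := by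
    intro a
    refine ((DFunLike.congr_fun hk (ev a)).symm.trans
      (IsFractionRing.stabilizerHom_apply_apply_mk G P Q _ _ ⟨k, hkQ⟩ a)).trans ?_
    show X.evaluation _ x hxV (IsQuot.pull hp.inv k⁻¹ U a) = _
    rw [CommRingCat.comp_apply, Scheme.residueFieldCongr_inv]
    exact (residueFieldMap_evaluation _ _ hxV a).symm.trans
      (congrArg _ (residueFieldCongr_evaluation e.symm hxV a).symm)
  rw [map_div₀, map_div₀]
  exact congrArg₂ (· / ·) (key a) (key s)

end Groth.Agent.Lib.SchQuot.Residue
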